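import Cfsg.Agent.CoThreeM.Cf.Normal
import Cfsg.Agent.AltTwelveType.Setting
import Cfsg.Agent.AltEightType.Core

/-!
The group acts on the normal elementary subgroup as a subgroup of the symmetric group of degree six: the orbit
of the code of the pair fixed by the Sylow subgroup.
-/

set_option autoImplicit false
set_option linter.unusedSectionVars false
set_option linter.style.haveILetI false
set_option maxRecDepth 100000

namespace Cfsg.Lib.CoThreeM.Cf

open Subgroup Cfsg.Lib.AltTwelveType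

universe u

theorem filter_length {α : Type*} [DecidableEq α] [Fintype α] (l : List α) (hl : l.Nodup) (hall : ∀ x, x ∈ l)
    (P : α → Bool) : (l.filter P).length = (Finset.univ.filter fun x => P x = true).card := by
  rw [← List.toFinset_card_of_nodup (hl.filter _)]
  congr 1
  ext x
  simp [hall]

theorem oMask_exists : ∀ P : Fin 7 → Bool, ∃ m : Fin 128, ∀ i : Fin 7, m.val.testBit i.val = P i := by decide +kernel

theorem xor5_val (a b : Fin 32) : (xor5 a b).val = a.val ^^^ b.val :=
  Nat.mod_eq_of_lt (Nat.xor_lt_two_pow (n := 5) a.isLt b.isLt)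

theorem xor5_assoc (a b c : Fin 32) : xor5 (xor5 a b) c = xor5 a (xor5 b c) :=
  Fin.ext (by simp only [xor5_val, Nat.xor_assoc])

theorem xor5_four (a b c d : Fin 32) : xor5 (xor5 a c) (xor5 b d) = xor5 (xor5 a b) (xor5 c d) :=
  Fin.ext (by simp only [xor5_val]; ac_rfl)

theorem xor5_mid (x y z : Fin 32) : xor5 (xor5 x y) (xor5 y z) = xor5 x z :=
  Fin.ext (by simp only [xor5_val, Nat.xor_assoc]; rw [← Nat.xor_assoc y.val y.val, Nat.xor_self, Nat.zero_xor])

theorem xor5_right (x y z : Fin 32) : xor5 (xor5 x z) (xor5 y z) = xor5 x y :=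
  Fin.ext (by simp only [xor5_val, Nat.xor_assoc]; rw [Nat.xor_comm y.val z.val, ← Nat.xor_assoc z.val z.val, Nat.xor_self, Nat.zero_xor])

theorem xor_laws : (∀ a b : Fin 32, xor5 a b = xor5 b a) ∧ (∀ a b : Fin 32, xor5 (xor5 a b) b = a) ∧
    (∀ a : Fin 32, xor5 a a = 0) ∧ (∀ a : Fin 32, xor5 a 0 = a) ∧
    (∀ a b c : Fin 32, xor5 (xor5 a b) c = xor5 a (xor5 b c)) :=
  ⟨by decide +kernel, by decide +kernel, by decide +kernel, by decide +kernel, xor5_assoc⟩

theorem axor_comm64 : ∀ a b : Fin 64, axor a b = axor b a := by decide +kernel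

theorem dC_pa : ∀ a : Fin 32, dC a = true ↔ ∃ x : Fin 64, ∀ i, vFun a i = aFun x i := by decide +kernel

theorem even_translate : ∀ m : Fin 128, (∀ v, oMask m.val v = true → oMask m.val (xor5 v 31) = true) →
    ((List.finRange 32).filter (oMask m.val)).length % 2 = 0 := by decide +kernel

namespace Data

variable {H : Type u} [Group H] [Finite H] (S : Data H)

/-- The centraliser of the elementary subgroup is itself. -/
theorem cent_A {g : H} (hg : ∀ a, g * S.el a = S.el a * g) : g ∈ S.A := by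
  haveI : Fact (Nat.Prime 2) := ⟨Nat.prime_two⟩
  haveI := S.A_normal
  set K := centralizer (S.A : Set H) with hK
  have hAK : S.A ≤ K := fun x hx => mem_centralizer_iff.2 fun y hy => S.A_comm hy hx
  have hTK : ∀ x ∈ (S.T : Subgroup H), x ∈ K → x ∈ S.A := by
    intro x hx hxK
    obtain ⟨b, u, rfl⟩ := S.mem_T.1 hx
    have hu : u = 0 := faithful u fun a => S.el_inj (by
      rw [← S.conj_el b u a, ← mem_centralizer_iff.1 hxK _ (S.el_mem a), mul_inv_cancel_right])
    exact S.mem_A.2 ⟨b, by rw [hu, S.ul_zero, mul_one]⟩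
  have hidx : ¬ 2 ∣ (S.A.subgroupOf K).index := by
    have h1 : (S.T : Subgroup H).subgroupOf K = S.A.subgroupOf K := by
      ext x
      exact ⟨fun hx => hTK x hx x.2, fun hx => S.cfg.le hx⟩
    rw [← h1, ← even_iff_two_dvd, Nat.not_even_iff_odd]
    exact ProdFusion.odd_relIndex_normal S.T K
  let Q : Sylow 2 ↥K := ((IsPGroup.of_card (n := 5) (by rw [S.card_A]; norm_num) :
    IsPGroup 2 S.A).comap_subtype (K := K)).toSylow hidx
  have hP : normalizer ((Q : Subgroup ↥K) : Set ↥K) ≤ centralizer ((Q : Subgroup ↥K) : Set ↥K) := fun x _ =>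
    mem_centralizer_iff.2 fun y hy => Subtype.ext (mem_centralizer_iff.1 x.2 y hy)
  set τ := MonoidHom.transferSylow Q hP with hτ
  set O := τ.ker.map K.subtype with hO
  have hOc : ¬ 2 ∣ Nat.card τ.ker := MonoidHom.not_dvd_card_ker_transferSylow Q hP
  have hOodd : Odd (Nat.card O) := by
    rw [card_map_of_injective K.subtype_injective, ← Nat.not_even_iff_odd, even_iff_two_dvd]; exact hOc
  haveI : O.Normal := ⟨by
    rintro _ ⟨y, hy, rfl⟩ g
    refine ⟨⟨g * y * g⁻¹, (normal_centralizer (H := S.A)).conj_mem _ y.2 g⟩, MonoidHom.mem_ker.2 ?_, rfl⟩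
    set y' : ↥K := ⟨g * y * g⁻¹, (normal_centralizer (H := S.A)).conj_mem _ y.2 g⟩
    have ho : orderOf y' = orderOf y := by
      rw [← orderOf_coe, ← orderOf_coe (a := y)]
      exact MulEquiv.orderOf_eq (MulAut.conj g) (y : H)
    have h1 : orderOf (τ y') ∣ Nat.card τ.ker :=
      (orderOf_map_dvd τ y').trans (ho ▸ Subgroup.orderOf_dvd_natCard τ.ker hy)
    obtain ⟨k, hk⟩ := IsPGroup.iff_card.1 Q.isPGroup'
    have h2 : orderOf (τ y') ∣ 2 ^ k := hk ▸ orderOf_dvd_natCard (τ y')
    exact orderOf_eq_one_iff.1 (Nat.eq_one_of_dvd_coprimes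
      (((Nat.prime_two.coprime_iff_not_dvd).2 hOc).pow_left k).symm h1 h2)⟩
  have hO1 : τ.ker = ⊥ := by
    have h := Cfsg.Lib.AltEightType.le_oddCore hOodd
    rw [S.core, le_bot_iff, hO, map_eq_bot_iff_of_injective _ K.subtype_injective] at h
    exact h
  have hcomp := MonoidHom.ker_transferSylow_isComplement' Q hP
  rw [← hτ, hO1] at hcomp
  have htop : (Q : Subgroup ↥K) = ⊤ := (isComplement'_bot_left.1 hcomp)
  have hgK : g ∈ K := mem_centralizer_iff.2 fun y hy => by
    obtain ⟨a, rfl⟩ := S.mem_A.1 hy; exact (hg a).symm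
  have : (⟨g, hgK⟩ : ↥K) ∈ (Q : Subgroup ↥K) := htop ▸ mem_top _
  exact this

theorem act_exists (g : H) (a : Fin 32) : ∃ b, g * S.el a * g⁻¹ = S.el b :=
  S.mem_A.1 (S.A_normal.conj_mem _ (S.el_mem a) g)

/-- the action on the codes -/
noncomputable def act (g : H) (a : Fin 32) : Fin 32 := (S.act_exists g a).choose

theorem act_spec (g : H) (a : Fin 32) : S.el (S.act g a) = g * S.el a * g⁻¹ := (S.act_exists g a).choose_spec.symm

theorem act_mul (g h : H) (a : Fin 32) : S.act (g * h) a = S.act g (S.act h a) :=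
  S.el_inj (by rw [S.act_spec, S.act_spec, S.act_spec]; group)

theorem act_one (a : Fin 32) : S.act 1 a = a := S.el_inj (by rw [S.act_spec]; group)

theorem act_xor (g : H) (a b : Fin 32) : S.act g (xor5 a b) = xor5 (S.act g a) (S.act g b) :=
  S.el_inj (by rw [S.act_spec, ← S.el_mul, ← S.el_mul, S.act_spec, S.act_spec]; group)

theorem act_inv_act (g : H) (a : Fin 32) : S.act g⁻¹ (S.act g a) = a := by
  rw [← S.act_mul, inv_mul_cancel, S.act_one]

theorem act_act_inv (g : H) (a : Fin 32) : S.act g (S.act g⁻¹ a) = a := by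
  rw [← S.act_mul, mul_inv_cancel, S.act_one]

theorem act_inj (g : H) {a b : Fin 32} (h : S.act g a = S.act g b) : a = b := by
  rw [← S.act_inv_act g a, h, S.act_inv_act]

theorem act_zero (g : H) : S.act g 0 = 0 := S.el_inj (by rw [S.act_spec, S.el_zero]; group)

theorem act_alpha (g : H) : S.act g 31 = 31 := S.el_inj (by
  rw [S.act_spec, mem_center_iff.1 S.el_central g, mul_inv_cancel_right])

theorem act_T (b : Fin 32) (u : Fin 16) (a : Fin 32) : S.act (S.el b * S.ul u) a = ua u a :=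
  S.el_inj (by rw [S.act_spec, S.conj_el])

theorem act_ul (u : Fin 16) (a : Fin 32) : S.act (S.ul u) a = ua u a := by
  have := S.act_T 0 u a
  rwa [S.el_zero, one_mul] at this

theorem mem_of_act {g : H} (h : ∀ a, S.act g a = a) : g ∈ S.A :=
  S.cent_A fun a => mul_inv_eq_iff_eq_mul.1 (by rw [← S.act_spec, h])

theorem act_iterate (g : H) (a : Fin 32) : S.act (g ^ 3) a = S.act g (S.act g (S.act g a)) := by
  rw [pow_three, S.act_mul, S.act_mul]

theorem eq_one_of_sq {g : H} (ho : Odd (orderOf g)) (h : g ^ 2 ∈ S.A) : g = 1 := by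
  obtain ⟨j, hj⟩ := ho
  have h4 : g ^ 4 = 1 := by rw [show (4 : ℕ) = 2 * 2 from rfl, pow_mul, pow_two (g ^ 2), S.A_sq h]
  have hd : orderOf g ∣ 4 := orderOf_dvd_of_pow_eq_one h4
  refine orderOf_eq_one_iff.1 ?_
  obtain ⟨i, -, hi⟩ := (Nat.dvd_prime_pow Nat.prime_two).1 (show orderOf g ∣ 2 ^ 2 from hd)
  rcases i with _ | i
  · simpa using hi
  · exfalso
    rw [pow_succ, hj] at hi
    omega

/-- The elements fixing a normal subset and the quotient by it lie in the Sylow subgroup. -/
theorem mem_T_of_series (o : Fin 32 → Bool) (ho : ∀ g a, g ∈ (S.T : Subgroup H) → o a = true → o (S.act g a) = true)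
    (ho0 : o 0 = true) (hox : ∀ a b, o a = true → o b = true → o (xor5 a b) = true) {g : H}
    (hf : ∀ a, o a = true → S.act g a = a) (hd : ∀ a, o (xor5 (S.act g a) a) = true) : g ∈ (S.T : Subgroup H) := by
  haveI : Fact (Nat.Prime 2) := ⟨Nat.prime_two⟩
  have hinvol : ∀ h : H, (∀ a, o a = true → S.act h a = a) → (∀ a, o (xor5 (S.act h a) a) = true) →
      ∀ a, S.act h (S.act h a) = a := fun h h1 h2 a => by
    have e : S.act h a = xor5 (xor5 (S.act h a) a) a := (xor_laws.2.1 _ _).symm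
    conv_lhs => rw [e, S.act_xor, h1 _ (h2 a)]
    rw [xor_laws.1 (S.act h a) a, xor_laws.2.1]
  let M : Subgroup H :=
    { carrier := {h | (∀ a, o a = true → S.act h a = a) ∧ ∀ a, o (xor5 (S.act h a) a) = true}
      one_mem' := ⟨fun a _ => S.act_one a, fun a => by rw [S.act_one, xor_laws.2.2.1, ho0]⟩
      mul_mem' := fun {h k} hh hk => ⟨fun a ha => by rw [S.act_mul, hk.1 a ha, hh.1 a ha], fun a => by
        rw [S.act_mul, show xor5 (S.act h (S.act k a)) a =
            xor5 (xor5 (S.act h (S.act k a)) (S.act k a)) (xor5 (S.act k a) a) by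
          rw [← xor_laws.2.2.2.2, xor_laws.2.1]]
        exact hox _ _ (hh.2 _) (hk.2 a)⟩
      inv_mem' := fun {h} hh => by
        have e : ∀ a, S.act h⁻¹ a = S.act h a := fun a => S.act_inj h (by rw [S.act_act_inv, hinvol h hh.1 hh.2])
        exact ⟨fun a ha => by rw [e, hh.1 a ha], fun a => by rw [e]; exact hh.2 a⟩ }
  have hM : IsPGroup 2 M := fun h => ⟨2, Subtype.ext (by
    show (h : H) ^ 4 = 1
    have h2 : (h : H) ^ 2 ∈ S.A := S.mem_of_act fun a => by rw [pow_two, S.act_mul, hinvol _ h.2.1 h.2.2]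
    rw [show (4 : ℕ) = 2 * 2 from rfl, pow_mul, pow_two ((h : H) ^ 2), S.A_sq h2])⟩
  have hn : (S.T : Subgroup H) ≤ normalizer (M : Set H) := fun t ht => Cfsg.Lib.ZStarApps.mem_normalizer_of_maps fun h hh => by
    refine ⟨fun a ha => ?_, fun a => ?_⟩
    · rw [S.act_mul, S.act_mul, hh.1 _ (ho _ a (inv_mem ht) ha), S.act_act_inv]
    · rw [S.act_mul, S.act_mul]
      have e : xor5 (S.act t (S.act h (S.act t⁻¹ a))) a =
          S.act t (xor5 (S.act h (S.act t⁻¹ a)) (S.act t⁻¹ a)) := by rw [S.act_xor, S.act_act_inv]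
      rw [e]
      exact ho _ _ ht (hh.2 _)
  exact (S.T.is_maximal' (S.T.isPGroup'.to_sup_of_normal_right' hM hn) le_sup_left).le
    (mem_sup_right (show g ∈ M from ⟨hf, hd⟩))

theorem dC_T (g : H) (a : Fin 32) (hg : g ∈ (S.T : Subgroup H)) (ha : dC a = true) : dC (S.act g a) = true := by
  obtain ⟨b, u, rfl⟩ := S.mem_T.1 hg
  rw [S.act_T]
  exact (by decide +kernel : ∀ u a, dC a = true → dC (ua u a) = true) u a ha

/-- No element of odd order centralises the subgroup of order eight. -/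
theorem parity {g : H} (ho : Odd (orderOf g)) (hd : ∀ d, dC d = true → S.act g d = d) : g = 1 := by
  obtain ⟨d0, d31, -, -, n1, n4, n5, dx⟩ := dC_facts
  -- an element trivial on the quotient has order two on the subgroup
  have htriv : ∀ h : H, Odd (orderOf h) → (∀ d, dC d = true → S.act h d = d) →
      (∀ a, dC (xor5 (S.act h a) a) = true) → h = 1 := fun h ho' hd' hq => S.eq_one_of_sq ho' <| S.mem_of_act fun a => by
    rw [pow_two, S.act_mul]
    have e : S.act h a = xor5 (xor5 (S.act h a) a) a := (xor_laws.2.1 _ _).symm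
    conv_lhs => rw [e, S.act_xor, hd' _ (hq a)]
    rw [xor_laws.1 (S.act h a) a, xor_laws.2.1]
  have hinD : ∀ a, dC (S.act g a) = true → dC a = true := fun a ha => by
    have h := hd _ ha
    rw [S.act_inj g h] at ha
    exact ha
  have hclass : ∀ a, dC a = false → dC (S.act g a) = false := fun a ha => by
    rcases Bool.eq_false_or_eq_true (dC (S.act g a)) with h | h
    · rw [hinD a h] at ha; exact Bool.noConfusion ha
    · exact h
  -- the permutation of the cosets
  have hmod : ∀ a, ∃ c : Fin 32, (c = 0 ∨ c = 1 ∨ c = 4 ∨ c = 5) ∧ dC (xor5 a c) = true := fun a => by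
    rcases dC_cosets a with h | h | h | h
    · exact ⟨0, Or.inl rfl, by rwa [xor_laws.2.2.2.1]⟩
    · exact ⟨1, Or.inr (Or.inl rfl), h⟩
    · exact ⟨4, Or.inr (Or.inr (Or.inl rfl)), h⟩
    · exact ⟨5, Or.inr (Or.inr (Or.inr rfl)), h⟩
  obtain ⟨p, hp, hp'⟩ := hmod (S.act g 1)
  obtain ⟨q, hq, hq'⟩ := hmod (S.act g 4)
  have hp0 : p ≠ 0 := fun e => by
    rw [e, xor_laws.2.2.2.1] at hp'; rw [hclass 1 n1] at hp'; exact Bool.noConfusion hp'
  have hq0 : q ≠ 0 := fun e => by
    rw [e, xor_laws.2.2.2.1] at hq'; rw [hclass 4 n4] at hq'; exact Bool.noConfusion hq'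
  have hpq : p ≠ q := fun e => by
    have h1 := dx _ _ hp' hq'
    rw [e, xor5_right,
      ← S.act_xor, show xor5 1 4 = 5 from by decide +kernel, hclass 5 n5] at h1
    exact Bool.noConfusion h1
  have h5 : dC (xor5 (S.act g 5) (xor5 p q)) = true := by
    have h1 := dx _ _ hp' hq'
    rwa [xor5_four,
      ← S.act_xor, show xor5 1 4 = 5 from by decide +kernel] at h1
  -- the image on a coset
  have hcos : ∀ {c c' : Fin 32}, dC (xor5 (S.act g c) c') = true → ∀ a, dC (xor5 a c) = true →
      dC (xor5 (S.act g a) c') = true := fun {c c'} h a ha => by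
    have h1 := dx _ _ (show dC (S.act g (xor5 a c)) = true by rw [hd _ ha]; exact ha) h
    rwa [S.act_xor, xor5_mid] at h1
  have hgd : ∀ a, dC a = true → dC (xor5 (S.act g a) a) = true := fun a ha => by
    rw [hd a ha, xor_laws.2.2.1]; exact d0
  by_cases hid : p = 1 ∧ q = 4
  · obtain ⟨rfl, rfl⟩ := hid
    refine htriv g ho hd fun a => ?_
    obtain ⟨c, hc, hc'⟩ := hmod a
    have h1 : dC (xor5 (S.act g a) c) = true := by
      rcases hc with rfl | rfl | rfl | rfl
      · rw [xor_laws.2.2.2.1] at hc' ⊢; rw [hd a hc']; exact hc'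
      · exact hcos hp' a hc'
      · exact hcos hq' a hc'
      · exact hcos h5 a hc'
    have := dx _ _ h1 hc'
    rwa [xor5_right] at this
  -- the images of the conjugate of the witness
  set h := g * S.ul 2 * g⁻¹ with hh
  obtain ⟨j1, j2⟩ := (J_facts 2).1 J_witness.1
  have hd' : ∀ d, dC d = true → S.act g⁻¹ d = d := fun d h' => S.act_inj g (by rw [S.act_act_inv, hd d h'])
  have hdisp : ∀ c, xor5 (S.act h (S.act g c)) (S.act g c) = dd 2 c := fun c => by
    rw [hh, S.act_mul, S.act_mul, S.act_inv_act, ← S.act_xor, S.act_ul, show xor5 (ua 2 c) c = dd 2 c from rfl,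
      hd _ (j2 c)]
  have hhT : h ∈ (S.T : Subgroup H) := S.mem_T_of_series dC (fun g a hg ha => S.dC_T g a hg ha) d0 dx
    (fun a ha => by rw [hh, S.act_mul, S.act_mul, hd' a ha, S.act_ul, j1 a ha, hd a ha])
    fun a => by rw [← S.act_act_inv g a, hdisp]; exact j2 _
  obtain ⟨b, v, hv⟩ := S.mem_T.1 hhT
  have hact : ∀ a, S.act h a = ua v a := fun a => by rw [hv, S.act_T]
  have hJ : inJ v = true := (J_facts v).2 ⟨fun a ha => by
    rw [← hact, hh, S.act_mul, S.act_mul, hd' a ha, S.act_ul, j1 a ha, hd a ha], fun a => by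
    show dC (xor5 (ua v a) a) = true
    rw [← hact, ← S.act_act_inv g a, hdisp]; exact j2 _⟩
  have hval : ∀ {c c'}, dC (xor5 (S.act g c) c') = true → dd v c' = dd 2 c := fun {c c'} hc => by
    rw [← hdisp c, hact]
    show _ = dd v (S.act g c)
    conv_rhs => rw [show S.act g c = xor5 c' (xor5 (S.act g c) c') from
      (by decide +kernel : ∀ x y : Fin 32, x = xor5 y (xor5 x y)) _ _]
    exact (J_shift v hJ _ _ hc).symm
  obtain ⟨r1, r2⟩ := J_no_rotate v hJ
  obtain ⟨-, w1, w4, w5⟩ := J_witness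
  have e1 := hval hp'
  have e4 := hval hq'
  have e5 := hval h5
  rw [w1] at e1
  rw [w4] at e4
  rw [w5] at e5
  have hsix : ∀ p q : Fin 32, (p = 0 ∨ p = 1 ∨ p = 4 ∨ p = 5) → (q = 0 ∨ q = 1 ∨ q = 4 ∨ q = 5) → p ≠ 0 → q ≠ 0 →
      p ≠ q → ¬ (p = 1 ∧ q = 4) → (p = 1 ∧ q = 5) ∨ (p = 4 ∧ q = 1) ∨ (p = 5 ∧ q = 4) ∨ (p = 4 ∧ q = 5) ∨
        (p = 5 ∧ q = 1) := by decide +kernel
  rcases hsix p q hp hq hp0 hq0 hpq hid with ⟨rfl, rfl⟩ | ⟨rfl, rfl⟩ | ⟨rfl, rfl⟩ | ⟨rfl, rfl⟩ | ⟨rfl, rfl⟩
  rotate_left 3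
  · exact absurd ⟨e1, e4⟩ r1
  · exact absurd ⟨e1, by simpa [show xor5 5 1 = 4 from by decide +kernel] using e5⟩ r2
  all_goals
    have h2 : g ^ 2 = 1 := htriv (g ^ 2) (ho.of_dvd_nat (orderOf_pow_dvd 2))
      (fun d hd0 => by rw [pow_two, S.act_mul, hd d hd0, hd d hd0]) fun a => by
        obtain ⟨c, hc, hc'⟩ := hmod a
        have h1 : dC (xor5 (S.act g (S.act g a)) c) = true := by
          rcases hc with rfl | rfl | rfl | rfl
          · rw [xor_laws.2.2.2.1] at hc' ⊢; rw [hd a hc', hd a hc']; exact hc'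
          all_goals
            first
              | exact hcos hp' _ (hcos hp' a hc')
              | exact hcos hq' _ (hcos hp' a hc')
              | exact hcos h5 _ (hcos hp' a hc')
              | exact hcos hp' _ (hcos hq' a hc')
              | exact hcos hq' _ (hcos hq' a hc')
              | exact hcos h5 _ (hcos hq' a hc')
              | exact hcos hp' _ (hcos h5 a hc')
              | exact hcos hq' _ (hcos h5 a hc')
              | exact hcos h5 _ (hcos h5 a hc')
        have := dx _ _ h1 hc'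
        rw [pow_two, S.act_mul]
        rwa [xor5_right] at this
    have h3 : g ^ 2 ∈ S.A := by rw [h2]; exact one_mem _
    exact S.eq_one_of_sq ho h3

/-- the orbit of the fixed weight two code -/
noncomputable def orb (v : Fin 32) : Bool := @decide (∃ g, S.act g 16 = v) (Classical.dec _)

theorem orb_iff {v : Fin 32} : S.orb v = true ↔ ∃ g, S.act g 16 = v := by simp [orb]

theorem orb_act (g : H) {v : Fin 32} (h : S.orb v = true) : S.orb (S.act g v) = true := by
  obtain ⟨k, rfl⟩ := S.orb_iff.1 h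
  exact S.orb_iff.2 ⟨g * k, S.act_mul _ _ _⟩

theorem orb_act_iff (g : H) (v : Fin 32) : S.orb (S.act g v) = S.orb v :=
  Bool.eq_iff_iff.2 ⟨fun h => by simpa [S.act_inv_act] using S.orb_act g⁻¹ h, S.orb_act g⟩

theorem orb_self : S.orb 16 = true := S.orb_iff.2 ⟨1, S.act_one _⟩

theorem orb_list : ∃ m : Fin 128, (∀ v, S.orb v = oMask m.val v) ∧ balanced (oMask m.val) = true := by
  classical
  obtain ⟨m, hm⟩ := oMask_exists fun i => S.orb (orep i)
  have hua : ∀ u v, S.orb (ua u v) = S.orb v := fun u v => by rw [← S.act_ul, S.orb_act_iff]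
  have hne0 : S.orb 0 = false ∧ S.orb 31 = false := by
    constructor
    · refine Bool.eq_false_iff.2 fun h => ?_
      obtain ⟨g, hg⟩ := S.orb_iff.1 h
      rw [← S.act_zero g] at hg
      exact absurd (S.act_inj g hg) (by decide)
    · refine Bool.eq_false_iff.2 fun h => ?_
      obtain ⟨g, hg⟩ := S.orb_iff.1 h
      rw [← S.act_alpha g] at hg
      exact absurd (S.act_inj g hg) (by decide)
  have heq : ∀ v, S.orb v = oMask m.val v := fun v => Bool.eq_iff_iff.2 ⟨fun h => by
    rcases orep_cover v with rfl | rfl | rfl | ⟨i, u, rfl⟩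
    · rw [hne0.1] at h; exact Bool.noConfusion h
    · rw [hne0.2] at h; exact Bool.noConfusion h
    · simp [oMask]
    · rw [hua] at h
      simp only [oMask, Bool.or_eq_true, decide_eq_true_eq, List.any_eq_true, Bool.and_eq_true]
      exact Or.inr ⟨i, List.mem_finRange i, (hm i).trans h, u, List.mem_finRange u, rfl⟩, fun h => by
    simp only [oMask, Bool.or_eq_true, decide_eq_true_eq, List.any_eq_true, Bool.and_eq_true] at h
    rcases h with rfl | ⟨i, -, hi, u, -, rfl⟩
    · exact S.orb_self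
    · rw [hua]; exact (hm i).symm.trans hi⟩
  refine ⟨m, heq, ?_⟩
  have hfun : oMask m.val = S.orb := funext fun v => (heq v).symm
  have hcount : ∀ g : H, ∀ v, v = S.act g 16 → ∀ t, S.act g t = t →
      ((List.finRange 32).filter S.orb |>.filter fun u => S.orb (xor5 (xor5 v u) t)).length =
      ((List.finRange 32).filter S.orb |>.filter fun u => S.orb (xor5 (xor5 16 u) t)).length := by
    intro g v hv t ht
    simp only [List.filter_filter]
    rw [filter_length _ (List.nodup_finRange 32) (fun x => List.mem_finRange x),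
      filter_length _ (List.nodup_finRange 32) (fun x => List.mem_finRange x)]
    refine (Finset.card_equiv ⟨S.act g, S.act g⁻¹, S.act_inv_act g, S.act_act_inv g⟩ fun u => ?_).symm
    simp only [Finset.mem_filter, Finset.mem_univ, true_and, Equiv.coe_fn_mk, Bool.and_eq_true]
    rw [hv, S.orb_act_iff, ← S.act_xor, show xor5 (S.act g (xor5 16 u)) t = S.act g (xor5 (xor5 16 u) t) by
      rw [S.act_xor g (xor5 16 u) t, ht], S.orb_act_iff]
  -- the orbit has odd size, so is not invariant under translation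
  have hnt : ¬ (S.orb 15 = true) := by
    intro h15
    have htr : ∀ v, oMask m.val v = true → oMask m.val (xor5 v 31) = true := by
      intro v hv
      rw [← heq] at hv ⊢
      obtain ⟨g, rfl⟩ := S.orb_iff.1 hv
      rw [← S.act_alpha g, ← S.act_xor, S.orb_act_iff, show xor5 16 31 = 15 from by decide +kernel]
      exact h15
    have heven := even_translate m htr
    rw [hfun, filter_length _ (List.nodup_finRange 32) (fun x => List.mem_finRange x)] at heven
    set C := centralizer ({S.el 16} : Set H) with hC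
    have hodd : ¬ 2 ∣ C.index := fun h2 => S.T.not_dvd_index (h2.trans (index_dvd_of_le fun t ht => by
      obtain ⟨b, u, rfl⟩ := S.mem_T.1 ht
      refine mem_centralizer_singleton_iff.2 (mul_inv_eq_iff_eq_mul.1 ?_)
      rw [S.conj_el, (fix_iff 16).2 (by decide +kernel) u]))
    have hbij : C.index = (Finset.univ.filter fun v => S.orb v = true).card := by
      have hwd : ∀ a b : H, (QuotientGroup.leftRel C) a b → S.act a 16 = S.act b 16 := fun a b hab => by
        have hab' : a⁻¹ * b ∈ C := QuotientGroup.leftRel_apply.1 hab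
        have h1 : S.act (a⁻¹ * b) 16 = 16 := S.el_inj (by
          rw [S.act_spec, mem_centralizer_singleton_iff.1 hab', mul_inv_cancel_right])
        conv_rhs => rw [show b = a * (a⁻¹ * b) by group, S.act_mul, h1]
      rw [index_eq_card, ← Fintype.card_subtype, ← Nat.card_eq_fintype_card]
      refine Nat.card_eq_of_bijective (fun q => ⟨Quotient.liftOn' q (fun g => S.act g 16) hwd,
        Quotient.inductionOn' q fun g => S.orb_iff.2 ⟨g, rfl⟩⟩) ⟨?_, ?_⟩
      · intro q q'
        refine Quotient.inductionOn₂' q q' fun a b h => ?_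
        have h' : S.act a 16 = S.act b 16 := congrArg Subtype.val h
        refine QuotientGroup.eq.2 (mem_centralizer_singleton_iff.2 (mul_inv_eq_iff_eq_mul.1 ?_))
        rw [← S.act_spec, S.act_mul, ← h', S.act_inv_act]
      · rintro ⟨v, hv⟩
        obtain ⟨g, rfl⟩ := S.orb_iff.1 hv
        exact ⟨QuotientGroup.mk g, rfl⟩
    exact hodd (hbij ▸ Nat.dvd_of_mod_eq_zero heven)
  rw [hfun]
  simp only [balanced, Bool.and_eq_true, List.all_eq_true, decide_eq_true_eq, List.mem_filter, List.mem_finRange,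
    true_and, Bool.not_eq_true']
  refine ⟨fun v hv => ?_, fun v hv => ?_⟩
  · obtain ⟨g, rfl⟩ := S.orb_iff.1 hv
    rw [← S.act_alpha g, ← S.act_xor, S.orb_act_iff, show xor5 16 31 = 15 from by decide +kernel]
    simpa using hnt
  · obtain ⟨g, hg⟩ := S.orb_iff.1 hv
    have h0 := hcount g v hg.symm 0 (S.act_zero g)
    simp only [xor_laws.2.2.2.1] at h0
    exact ⟨h0, hcount g v hg.symm 31 (S.act_alpha g)⟩

/-- An orbit of seven codes is impossible. -/
theorem seven_false (k : Fin 9) (ho : ∀ v, S.orb v = oSet k v)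
    (hx : ∀ a b, spanC (oSet k) a = true → spanC (oSet k) b = true → spanC (oSet k) (xor5 a b) = true)
    (hodd : ∀ a b, spanC (oSet k) a = false → spanC (oSet k) b = false → spanC (oSet k) (xor5 a b) = true)
    (hfix : ∀ u, (∀ a, spanC (oSet k) a = true → ua u a = a) ↔ (u = 0 ∨ u = 4))
    {v : Fin 32} (hv : oSet k v = true) (hv16 : v ≠ 16) : False := by
  set o := spanC (oSet k) with hodef
  have h0 : o 0 = true := by simp [hodef, spanC]
  have hinv : ∀ g d, o d = true → o (S.act g d) = true := fun g d hd => by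
    simp only [hodef, spanC, Bool.or_eq_true, decide_eq_true_eq] at hd ⊢
    rcases hd with ((rfl | rfl) | h) | h
    · exact Or.inl (Or.inl (Or.inl (S.act_zero g)))
    · exact Or.inl (Or.inl (Or.inr (S.act_alpha g)))
    · exact Or.inl (Or.inr ((ho _).symm.trans (S.orb_act g ((ho _).trans h))))
    · refine Or.inr ?_
      rw [show xor5 (S.act g d) 31 = S.act g (xor5 d 31) by rw [S.act_xor, S.act_alpha]]
      exact (ho _).symm.trans (S.orb_act g ((ho _).trans h))
  obtain ⟨g, hg⟩ := S.orb_iff.1 ((ho v).trans hv)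
  have hfix4 := (hfix 4).2 (Or.inr rfl)
  -- the conjugate of the transvection is itself
  set h := g * S.ul 4 * g⁻¹ with hh
  have hf : ∀ a, o a = true → S.act h a = a := fun a ha => by
    rw [hh, S.act_mul, S.act_mul, S.act_ul, hfix4 _ (hinv g⁻¹ a ha), S.act_act_inv]
  have hd : ∀ a, o (xor5 (S.act h a) a) = true := fun a => by
    rcases Bool.eq_false_or_eq_true (o a) with ha | ha
    · rw [hf a ha, xor_laws.2.2.1]; exact h0
    · refine hodd _ _ ?_ ha
      rcases Bool.eq_false_or_eq_true (o (S.act h a)) with e | e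
      · rw [S.act_inj h (hf _ e)] at e; rw [ha] at e; exact Bool.noConfusion e
      · exact e
  obtain ⟨b, w, hw⟩ := S.mem_T.1 (S.mem_T_of_series o (fun g a _ ha => hinv g a ha) h0 hx hf hd)
  have hact : ∀ a, S.act h a = ua w a := fun a => by rw [hw, S.act_T]
  obtain ⟨⟨a, ha⟩, hall⟩ := four_commutator
  -- so the code is fixed
  have key : xor5 (ua w (S.act g a)) (S.act g a) = v := by
    rw [← hact, hh, S.act_mul, S.act_mul, S.act_inv_act, S.act_ul, ← S.act_xor,
      show xor5 (ua 4 a) a = 16 from ha, hg]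
  rcases (hfix w).1 (fun a ha => by rw [← hact, hf a ha]) with rfl | rfl
  · rw [(by decide +kernel : ∀ a : Fin 32, xor5 (ua 0 a) a = 0)] at key
    subst key
    rw [← S.act_zero g] at hg
    exact absurd (S.act_inj g hg) (by decide)
  · rcases hall (S.act g a) with e | e
    · rw [show xor5 (ua 4 (S.act g a)) (S.act g a) = dd 4 (S.act g a) from rfl, e] at key
      subst key
      rw [← S.act_zero g] at hg
      exact absurd (S.act_inj g hg) (by decide)
    · exact hv16 (key.symm.trans e)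

/-- An orbit of three codes makes the subgroup of order sixty four normal. -/
theorem three_false (hne : normalizer (E6.map S.ψ : Set H) ≠ ⊤) (k : Fin 9) (hs : ∀ v, spanC (oSet k) v = dC v)
    (ho : ∀ v, S.orb v = oSet k v) : False := by
  haveI : Fact (Nat.Prime 2) := ⟨Nat.prime_two⟩
  -- three codes: the subgroup of order sixty four is normal
  have hinv : ∀ g d, dC d = true → dC (S.act g d) = true := fun g d hd => by
    rw [← hs] at hd ⊢
    simp only [spanC, Bool.or_eq_true, decide_eq_true_eq] at hd ⊢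
    rcases hd with ((rfl | rfl) | h) | h
    · exact Or.inl (Or.inl (Or.inl (S.act_zero g)))
    · exact Or.inl (Or.inl (Or.inr (S.act_alpha g)))
    · exact Or.inl (Or.inr ((ho _).symm.trans (S.orb_act g ((ho _).trans h))))
    · refine Or.inr ?_
      rw [show xor5 (S.act g d) 31 = S.act g (xor5 d 31) by rw [S.act_xor, S.act_alpha]]
      exact (ho _).symm.trans (S.orb_act g ((ho _).trans h))
  let C : Subgroup H :=
    { carrier := {g | ∀ d, dC d = true → S.act g d = d}
      one_mem' := fun d _ => S.act_one d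
      mul_mem' := fun {g h} hg hh d hd => by rw [S.act_mul, hh d hd, hg d hd]
      inv_mem' := fun {g} hg d hd => S.act_inj g (by rw [S.act_act_inv, hg d hd]) }
  haveI : C.Normal := ⟨fun c hc g d hd => by
    rw [S.act_mul, S.act_mul, hc _ (hinv g⁻¹ d hd), S.act_act_inv]⟩
  have hC2 : IsPGroup 2 C := fun c => by
    obtain ⟨j, r, hr, hjr⟩ := Nat.exists_eq_two_pow_mul_odd (orderOf_pos c).ne'
    refine ⟨j, ?_⟩
    have h1 : ((c ^ 2 ^ j : C) : H) = 1 := S.parity (by
      rw [orderOf_coe, orderOf_pow c, hjr, Nat.gcd_eq_right (dvd_mul_right _ _),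
        Nat.mul_div_cancel_left _ (pow_pos (by norm_num) j)]
      exact hr) (c ^ 2 ^ j).2
    exact Subtype.ext h1
  have hCT : C ≤ (S.T : Subgroup H) :=
    (Cfsg.Lib.Components.le_pCore hC2).trans (Cfsg.Lib.Coprime.pCore_le_sylow 2 S.T)
  refine hne (normalizer_eq_top_iff.2 ⟨?_⟩)
  rintro _ ⟨e, ⟨y, hy⟩, rfl⟩ g
  have hEC : ∀ f ∈ E6.map S.ψ, f ∈ C := by
    rintro _ ⟨n, ⟨z, hz⟩, rfl⟩ d hd
    obtain ⟨w, hw⟩ := (dC_pa d).1 hd
    refine S.el_inj ?_
    rw [S.act_spec, el, ← map_inv, ← map_mul, ← map_mul]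
    refine congrArg S.ψ (Subtype.ext ?_)
    show (n : Mh) * va d * (n : Mh)⁻¹ = va d
    rw [show va d = pa w from Subtype.ext (Equiv.ext hw), hz, pa_mul, axor_comm64, ← pa_mul, mul_inv_cancel_right]
  let B : Subgroup Mh := (((E6.map S.ψ).map (MulAut.conj g).toMonoidHom).comap S.ψ).map Sm.subtype
  have hle : (E6.map S.ψ).map (MulAut.conj g).toMonoidHom ≤ S.ψ.range := by
    rintro _ ⟨f, hf, rfl⟩
    exact hCT (Normal.conj_mem inferInstance f (hEC f hf) g)
  have hcomm6 : ∀ p q : ↥Sm, p ∈ E6 → q ∈ E6 → p * q = q * p := fun p q ⟨a, ha⟩ ⟨b, hb⟩ => Subtype.ext (by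
    rw [Subgroup.coe_mul, Subgroup.coe_mul, ha, hb, pa_mul, pa_mul, axor_comm64])
  have hsq6 : ∀ p : ↥Sm, p ∈ E6 → p * p = 1 := fun p ⟨a, ha⟩ => Subtype.ext (by
    rw [Subgroup.coe_mul, ha, pa_sq]; rfl)
  have hB := elem_eq (B := B) (map_subtype_le _) (by
      rw [card_map_of_injective Sm.subtype_injective,
        ← card_map_of_injective (K := ((E6.map S.ψ).map (MulAut.conj g).toMonoidHom).comap S.ψ) S.inj,
        map_comap_eq_self hle, card_map_of_injective (MulEquiv.injective _), card_map_of_injective S.inj,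
        ← Nat.card_congr (Equiv.ofBijective (fun a : Fin 64 => (⟨⟨pa a, pa_mem_Sm a⟩, a, rfl⟩ : E6))
          ⟨fun a b h => pa_inj (congrArg (fun z : E6 => ((z : ↥Sm) : Mh)) h), fun z => by
            obtain ⟨a, ha⟩ := z.2
            exact ⟨a, Subtype.ext (Subtype.ext ha.symm)⟩⟩), Nat.card_fin])
    (by
      rintro _ ⟨p, ⟨_, ⟨p', hp', rfl⟩, hp⟩, rfl⟩ _ ⟨q, ⟨_, ⟨q', hq', rfl⟩, hq⟩, rfl⟩
      rw [← map_mul, ← map_mul]
      exact congrArg Sm.subtype (S.inj (by rw [map_mul, map_mul, ← hp, ← hq, ← map_mul, ← map_mul, ← map_mul,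
        ← map_mul, hcomm6 p' q' hp' hq'])))
    (by
      rintro _ ⟨p, ⟨_, ⟨p', hp', rfl⟩, hp⟩, rfl⟩
      rw [← map_mul, show p * p = 1 from S.inj (by rw [map_mul, ← hp, ← map_mul, ← map_mul, hsq6 p' hp',
        map_one, map_one]), map_one])
  obtain ⟨n, hn⟩ := hle ⟨_, ⟨e, ⟨y, hy⟩, rfl⟩, rfl⟩
  obtain ⟨w, hw⟩ := hB n ⟨n, (mem_comap.2 (hn ▸ mem_map_of_mem _ ⟨e, ⟨y, hy⟩, rfl⟩)), rfl⟩
  exact ⟨n, ⟨w, hw⟩, hn⟩

variable (hN : Nat.card ↥(normalizer (E6.map S.ψ : Set H)) = 1536) (hne : normalizer (E6.map S.ψ : Set H) ≠ ⊤)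
include hN hne

/-- The orbit is one of the four sets of weight two codes. -/
theorem orb_cases : ∃ k : Fin 4, ∀ v, S.orb v = oSet ⟨k.val + 5, by omega⟩ v := by
  obtain ⟨m, hm, hb⟩ := S.orb_list
  obtain ⟨k, hk⟩ := balanced_cases m hb
  have ho : ∀ v, S.orb v = oSet k v := fun v => (hm v).trans (hk v)
  haveI : Fact (Nat.Prime 2) := ⟨Nat.prime_two⟩
  by_cases h5 : 5 ≤ k.val
  · refine ⟨⟨k.val - 5, by omega⟩, fun v => ?_⟩
    rw [ho]
    exact congrArg (fun j => oSet j v) (Fin.ext (show k.val = k.val - 5 + 5 by omega))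
  exfalso
  have hk5 : k = 0 ∨ k = 1 ∨ k = 2 ∨ k = 3 ∨ k = 4 :=
    (by decide +kernel : ∀ k : Fin 9, ¬ 5 ≤ k.val → k = 0 ∨ k = 1 ∨ k = 2 ∨ k = 3 ∨ k = 4) k h5
  rcases hk5 with rfl | rfl | rfl | rfl | rfl
  · -- a fixed code
    haveI : Fact (Nat.Prime 3) := ⟨Nat.prime_three⟩
    obtain ⟨x, hx⟩ := exists_prime_orderOf_dvd_card' (G := ↥(normalizer (E6.map S.ψ : Set H))) 3
      (by rw [hN]; norm_num)
    set g : H := (x : H) with hgdef
    have hg3 : orderOf g = 3 := by rw [hgdef, orderOf_coe]; exact hx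
    have hg16 : S.act g 16 = 16 := (by decide +kernel : ∀ v, oSet 0 v = true → v = 16) _
      ((ho _).symm.trans (S.orb_iff.2 ⟨g, rfl⟩))
    have hDE : ∀ a, dC a = true ↔ S.el a ∈ E6.map S.ψ := fun a => by
      rw [dC_pa]
      constructor
      · rintro ⟨y, hy⟩
        exact ⟨⟨va a, va_mem_Sm a⟩, ⟨y, Subtype.ext (Equiv.ext hy)⟩, rfl⟩
      · rintro ⟨n, ⟨y, hy⟩, e⟩
        have := S.inj e
        subst this
        exact ⟨y, fun i => Equiv.congr_fun (congrArg Subtype.val hy) i⟩
    have hgD : ∀ a, dC a = true → dC (S.act g a) = true := fun a ha => (hDE _).2 (by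
      rw [S.act_spec]; exact (mem_normalizer_iff.1 x.2 _).1 ((hDE a).1 ha))
    have hg15 : S.act g 15 = 15 := by
      rw [show (15 : Fin 32) = xor5 16 31 from by decide +kernel, S.act_xor, hg16, S.act_alpha]
    have hW : ∀ a, fixC a = true → S.act g a = a := fun a ha => by
      rcases (by decide +kernel : ∀ a, fixC a = true → a = 0 ∨ a = 15 ∨ a = 16 ∨ a = 31) a ha with
        rfl | rfl | rfl | rfl
      exacts [S.act_zero g, hg15, hg16, S.act_alpha g]
    have h3 : S.act g 3 = 3 := by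
      have hc : fixC (xor5 (S.act g 3) 3) = true :=
        (by decide +kernel : ∀ c, dC c = true → fixC c = false → fixC (xor5 c 3) = true) _
          (hgD 3 (by decide +kernel)) (by
            rcases Bool.eq_false_or_eq_true (fixC (S.act g 3)) with h | h
            · exact absurd (S.act_inj g (hW _ h)) (fun e => by rw [e] at h; exact absurd h (by decide +kernel))
            · exact h)
      set c := xor5 (S.act g 3) 3 with hcdef
      have e : S.act g 3 = xor5 3 c := by rw [hcdef, xor_laws.1 (S.act g 3) 3, ← xor_laws.2.2.2.2, xor_laws.2.2.1]; exact (by decide +kernel : ∀ a : Fin 32, a = xor5 0 a) _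
      have h333 := S.act_iterate g 3
      rw [show g ^ 3 = 1 by rw [← hg3, pow_orderOf_eq_one], S.act_one, e, S.act_xor, hW c hc, e, S.act_xor,
        S.act_xor, hW c hc, e] at h333
      rw [e]
      exact (by decide +kernel : ∀ c : Fin 32, 3 = xor5 (xor5 (xor5 3 c) c) c → xor5 3 c = 3) c h333
    have hD : ∀ d, dC d = true → S.act g d = d := fun d hd => by
      rcases (by decide +kernel : ∀ d, dC d = true → fixC d = true ∨ fixC (xor5 d 3) = true) d hd with h | h
      · exact hW d h
      · have := hW _ h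
        rw [S.act_xor, h3] at this
        exact (by decide +kernel : ∀ x y : Fin 32, xor5 x 3 = xor5 y 3 → x = y) _ _ this
    have := S.parity (g := g) (by rw [hg3]; decide) hD
    rw [this, orderOf_one] at hg3
    exact absurd hg3 (by norm_num)
  · exact S.three_false hne 1 (fun v => (small_three v).1) ho
  · exact S.three_false hne 2 (fun v => (small_three v).2) ho
  · obtain ⟨⟨v, hv, hv16⟩, hx, -, hodd, hfix⟩ := small_seven 3 (by decide)
    exact S.seven_false 3 ho hx hodd hfix hv hv16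
  · obtain ⟨⟨v, hv, hv16⟩, hx, -, hodd, hfix⟩ := small_seven 4 (by decide)
    exact S.seven_false 4 ho hx hodd hfix hv hv16

end Data

end Cfsg.Lib.CoThreeM.Cf
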