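import Cfsg.Agent.CoThreeM.Cf.Model

/-!
Finite facts about the action of the Sylow subgroup on the elementary subgroup of order thirty two.
-/

set_option autoImplicit false
set_option maxRecDepth 100000
set_option maxHeartbeats 1000000

namespace Cfsg.Lib.CoThreeM.Cf

/-- the action of the Sylow subgroup on the codes -/
def ua (u : Fin 16) (a : Fin 32) : Fin 32 := enc fun i => bit6 a (uFun (uInv u) i)

theorem pact_uP (u : Fin 16) (a : Fin 32) : pact (uP u) a = ua u a := rfl

/-- the commutator -/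
def dd (u : Fin 16) (a : Fin 32) : Fin 32 := xor5 (ua u a) a

/-- the fixed codes -/
def fixC (a : Fin 32) : Bool := decide (a = 0 ∨ a = 15 ∨ a = 16 ∨ a = 31)

/-- the invariant subgroup of order eight -/
def dC (a : Fin 32) : Bool := decide (a.val ∈ [0, 3, 12, 15, 16, 19, 28, 31])

theorem fix_iff : ∀ a : Fin 32, (∀ u, ua u a = a) ↔ fixC a = true := by decide +kernel

theorem near_fix : ∀ a : Fin 32, (∀ u, ua u a = a ∨ ua u a = xor5 a 31) → fixC a = true := by decide +kernel

theorem faithful : ∀ u : Fin 16, (∀ a, ua u a = a) → u = 0 := by decide +kernel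

theorem near_one : ∀ u : Fin 16, (∀ a, dd u a = 0 ∨ dd u a = 31) → u = 0 := by decide +kernel

theorem near_fix_unique : ∀ u : Fin 16, (∀ a, fixC (dd u a) = true) → u = 0 ∨ u = 4 := by decide +kernel

theorem reach_fix : ∀ a : Fin 32, a ≠ 0 → a ≠ 31 → (a = 15 ∨ a = 16) ∨ ∃ u, dd u a = 15 ∨ dd u a = 16 := by
  decide +kernel

theorem alpha_commutators : xor5 (dd 1 1) (dd 6 4) = 31 := by decide +kernel

/-- the elements trivial on the invariant subgroup and on its quotient -/
def inJ (u : Fin 16) : Bool := decide (u.val < 8)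

theorem J_facts : ∀ u : Fin 16, inJ u = true ↔ ((∀ a, dC a = true → ua u a = a) ∧ ∀ a, dC (dd u a) = true) := by
  decide +kernel

theorem J_witness : inJ 2 = true ∧ dd 2 1 = 0 ∧ dd 2 4 = 12 ∧ dd 2 5 = 12 := by decide +kernel

theorem J_no_rotate : ∀ v : Fin 16, inJ v = true →
    ¬ (dd v 4 = 0 ∧ dd v 5 = 12) ∧ ¬ (dd v 5 = 0 ∧ dd v 4 = 12) := by decide +kernel

theorem J_shift : ∀ v : Fin 16, inJ v = true → ∀ a d : Fin 32, dC d = true → dd v (xor5 a d) = dd v a := by
  decide +kernel

theorem dC_cosets : ∀ a : Fin 32, dC a = true ∨ dC (xor5 a 1) = true ∨ dC (xor5 a 4) = true ∨ dC (xor5 a 5) = true := by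
  decide +kernel

theorem dC_facts : dC 0 = true ∧ dC 31 = true ∧ dC 15 = true ∧ dC 16 = true ∧
    dC 1 = false ∧ dC 4 = false ∧ dC 5 = false ∧
    (∀ a b : Fin 32, dC a = true → dC b = true → dC (xor5 a b) = true) := by decide +kernel

/-- the seven free orbits -/
def orep (i : Fin 7) : Fin 32 := [1, 3, 5, 7, 19, 21, 15].getD i.val 0

/-- the codes allowed by a choice of orbits -/
def oMask (m : ℕ) (v : Fin 32) : Bool :=
  decide (v = 16) || (List.finRange 7).any fun i => m.testBit i.val && (List.finRange 16).any fun u => decide (ua u (orep i) = v)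

theorem orep_cover : ∀ v : Fin 32, v = 0 ∨ v = 31 ∨ v = 16 ∨ ∃ i : Fin 7, ∃ u, ua u (orep i) = v := by decide +kernel

/-- the balance of a set of codes -/
def balanced (o : Fin 32 → Bool) : Bool :=
  let l := (List.finRange 32).filter o
  let n := (l.filter fun u => o (xor5 16 u)).length
  let n' := (l.filter fun u => o (xor5 (xor5 16 u) 31)).length
  (l.all fun v => !o (xor5 v 31)) &&
    (l.all fun v => decide ((l.filter fun u => o (xor5 v u)).length = n ∧
      (l.filter fun u => o (xor5 (xor5 v u) 31)).length = n'))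

/-- one of the nine sets -/
def oSet (k : Fin 9) (v : Fin 32) : Bool :=
  Nat.testBit ([65536, 69640, 269025280, 269026912, 375980032, 18290558, 1753317096, 125243678, 1860270216].getD k.val 0) v.val

theorem balanced_cases : ∀ m : Fin 128, balanced (oMask m.val) = true → ∃ k : Fin 9, ∀ v, oMask m.val v = oSet k v := by
  decide +kernel

/-- the span of a set -/
def spanC (o : Fin 32 → Bool) (v : Fin 32) : Bool := decide (v = 0) || decide (v = 31) || o v || o (xor5 v 31)

theorem small_three : ∀ v, spanC (oSet 1) v = dC v ∧ spanC (oSet 2) v = dC v := by decide +kernel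

theorem small_seven : ∀ k : Fin 9, k = 3 ∨ k = 4 →
    (∃ v, oSet k v = true ∧ v ≠ 16) ∧
    (∀ a b, spanC (oSet k) a = true → spanC (oSet k) b = true → spanC (oSet k) (xor5 a b) = true) ∧
    (∃ a, spanC (oSet k) a = false) ∧
    (∀ a b, spanC (oSet k) a = false → spanC (oSet k) b = false → spanC (oSet k) (xor5 a b) = true) ∧
    (∀ u, (∀ a, spanC (oSet k) a = true → ua u a = a) ↔ (u = 0 ∨ u = 4)) := by decide +kernel

theorem four_commutator : (∃ a, dd 4 a = 16) ∧ ∀ a, dd 4 a = 0 ∨ dd 4 a = 16 := by decide +kernel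

/-- the weight two codes -/
def wTwo (a : Fin 32) : Bool := decide ((Finset.univ.filter fun i => bit6 a i = true).card = 2)

/-- the four changes of coordinates -/
def tau (k : Fin 4) (a : Fin 32) : Fin 32 :=
  Fin.ofNat 32 (([[0, 17, 16, 1, 18, 3, 2, 19, 20, 5, 4, 21, 6, 23, 22, 7, 24, 9, 8, 25, 10, 27, 26, 11, 12, 29, 28, 13, 30, 15, 14, 31],
    [0, 29, 30, 3, 27, 6, 5, 24, 16, 13, 14, 19, 11, 22, 21, 8, 23, 10, 9, 20, 12, 17, 18, 15, 7, 26, 25, 4, 28, 1, 2, 31],
    [0, 25, 24, 1, 26, 3, 2, 27, 8, 17, 16, 9, 18, 11, 10, 19, 12, 21, 20, 13, 22, 15, 14, 23, 4, 29, 28, 5, 30, 7, 6, 31],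
    [0, 21, 22, 3, 27, 14, 13, 24, 11, 30, 29, 8, 16, 5, 6, 19, 12, 25, 26, 15, 23, 2, 1, 20, 7, 18, 17, 4, 28, 9, 10, 31]] :
      List (List ℕ)).getD k.val [] |>.getD a.val 0)

theorem tau_facts : ∀ k : Fin 4, (∀ a b, tau k (xor5 a b) = xor5 (tau k a) (tau k b)) ∧ tau k 31 = 31 ∧
    (∀ a b, tau k a = tau k b → a = b) ∧ ∀ a, wTwo a = oSet ⟨k.val + 5, by omega⟩ (tau k a) := by decide +kernel

/-- the position of the single flip of two weight two codes -/
def meetPt (a b : Fin 32) : Fin 6 :=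
  ((List.finRange 6).find? fun i => bit6 a i && bit6 b i).getD 0

/-- the other flip -/
def otherPt (a : Fin 32) (i : Fin 6) : Fin 6 :=
  ((List.finRange 6).find? fun j => bit6 a j && decide (j ≠ i)).getD 0

/-- the permutation read off the images of a chain -/
def chainPerm (a b c d : Fin 32) (i : Fin 6) : Fin 6 :=
  let p1 := meetPt a b
  let p0 := otherPt a p1
  let p2 := otherPt b p1
  let p3 := otherPt c p2
  let p4 := otherPt d p3
  let p5 := ((List.finRange 6).find? fun j => decide (j ≠ p0 ∧ j ≠ p1 ∧ j ≠ p2 ∧ j ≠ p3 ∧ j ≠ p4)).getD 0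
  [p0, p1, p2, p3, p4, p5].getD i.val 0

/-- the code of two flips -/
def duad (i j : Fin 6) : Fin 32 := enc fun k => decide (k = i ∨ k = j)

/-- the list of weight two codes -/
def wList : List (Fin 32) := (List.finRange 32).filter wTwo

theorem chain_spec : (wList.all fun a => wList.all fun b => !(wTwo (xor5 a b)) || wList.all fun c =>
    !(wTwo (xor5 b c) && !wTwo (xor5 a c) && decide (a ≠ c)) || wList.all fun d =>
    !(wTwo (xor5 c d) && !wTwo (xor5 a d) && !wTwo (xor5 b d) && decide (a ≠ d) && decide (b ≠ d) &&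
        wTwo (xor5 (xor5 a b) c) && wTwo (xor5 (xor5 b c) d)) ||
      (decide (∀ i j, chainPerm a b c d i = chainPerm a b c d j → i = j) &&
      decide (duad (chainPerm a b c d 0) (chainPerm a b c d 1) = a) &&
      decide (duad (chainPerm a b c d 1) (chainPerm a b c d 2) = b) &&
      decide (duad (chainPerm a b c d 2) (chainPerm a b c d 3) = c) &&
      decide (duad (chainPerm a b c d 3) (chainPerm a b c d 4) = d))) = true := by decide +kernel

theorem chain_base : wTwo 3 = true ∧ wTwo 6 = true ∧ wTwo 12 = true ∧ wTwo 24 = true ∧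
    wTwo (xor5 3 6) = true ∧ wTwo (xor5 6 12) = true ∧ wTwo (xor5 12 24) = true ∧
    wTwo (xor5 3 12) = false ∧ wTwo (xor5 3 24) = false ∧ wTwo (xor5 6 24) = false ∧
    wTwo (xor5 (xor5 3 6) 12) = true ∧ wTwo (xor5 (xor5 6 12) 24) = true ∧
    duad 0 1 = 3 ∧ duad 1 2 = 6 ∧ duad 2 3 = 12 ∧ duad 3 4 = 24 := by decide +kernel

theorem chain_gen : ∀ a : Fin 32, ∃ e0 e1 e2 e3 e4 : Bool,
    a = xor5 (xor5 (xor5 (if e0 then 3 else 0) (if e1 then 6 else 0)) (xor5 (if e2 then 12 else 0) (if e3 then 24 else 0)))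
      (if e4 then 31 else 0) := by decide +kernel

theorem duad_two : ∀ i j : Fin 6, i ≠ j → wTwo (duad i j) = true ∧ ∀ k, bit6 (duad i j) k = decide (k = i ∨ k = j) := by
  decide +kernel

theorem wTwo_is_duad : ∀ a : Fin 32, wTwo a = true → ∃ i j : Fin 6, i ≠ j ∧ a = duad i j := by decide +kernel

end Cfsg.Lib.CoThreeM.Cf
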