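import Cfsg.Agent.CoThreeM.Cf.Action
import Cfsg.Agent.SolvStruct.Gaschuetz

/-!
The recognition of the centraliser of the fixed point free involution in the alternating group of degree twelve.
-/

set_option autoImplicit false
set_option linter.unusedSectionVars false
set_option linter.style.haveILetI false
set_option maxRecDepth 100000

namespace Cfsg.Lib.CoThreeM.Cf

open Subgroup Cfsg.Lib.AltTwelveType

universe u

theorem pact_duad (σ : Equiv.Perm (Fin 6)) {i j : Fin 6} (h : i ≠ j) : pact σ (duad i j) = duad (σ i) (σ j) := by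
  rw [← enc_bit6 (pact σ (duad i j)), ← enc_bit6 (duad (σ i) (σ j))]
  congr 1
  funext k
  rw [bit6_pact, (duad_two i j h).2, (duad_two _ _ (fun e => h (σ.injective e))).2]
  exact decide_eq_decide.2 (by rw [Equiv.symm_apply_eq, Equiv.symm_apply_eq])

theorem pact_alpha (σ : Equiv.Perm (Fin 6)) : pact σ 31 = 31 := by
  rw [← enc_bit6 (pact σ 31)]
  refine Eq.trans (congrArg enc (funext fun k => ?_)) (enc_bit6 31)
  rw [bit6_pact]
  exact (by decide +kernel : ∀ a b : Fin 6, bit6 31 a = bit6 31 b) _ _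

theorem pact_zero (σ : Equiv.Perm (Fin 6)) : pact σ 0 = 0 := by
  rw [← (xor_laws.2.2.1 31), pact_xor, pact_alpha]

theorem pact_inj {σ ρ : Equiv.Perm (Fin 6)} (h : ∀ a, pact σ a = pact ρ a) : σ = ρ := by
  refine Equiv.ext fun i => ?_
  by_contra hne
  have key : ∀ j, j ≠ i → σ i = ρ j := by
    intro j hj
    have e := h (duad i j)
    rw [pact_duad σ (Ne.symm hj), pact_duad ρ (Ne.symm hj)] at e
    have e' := congrArg (fun a => bit6 a (σ i)) e
    simp only [(duad_two _ _ (fun e => hj.symm (σ.injective e))).2,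
      (duad_two _ _ (fun e => hj.symm (ρ.injective e))).2, true_or, decide_true] at e'
    have := of_decide_eq_true e'.symm
    exact this.resolve_left hne
  obtain ⟨j1, j2, h1, h2, h12⟩ :=
    (by decide +kernel : ∀ i : Fin 6, ∃ j1 j2 : Fin 6, j1 ≠ i ∧ j2 ≠ i ∧ j1 ≠ j2) i
  exact h12 (ρ.injective ((key j1 h1).symm.trans (key j2 h2)))

/-- a five cycle -/
def fiveA : Equiv.Perm (Fin 6) := ⟨![0, 2, 3, 4, 5, 1], ![0, 5, 1, 2, 3, 4], by decide, by decide⟩
/-- another five cycle -/
def fiveB : Equiv.Perm (Fin 6) := ⟨![5, 1, 0, 2, 3, 4], ![2, 1, 3, 4, 5, 0], by decide, by decide⟩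

theorem five_facts : fiveA ^ 5 = 1 ∧ fiveB ^ 5 = 1 ∧ (fiveA * fiveB).cycleType = {3} := by
  refine ⟨by decide +kernel, by decide +kernel, by decide +kernel⟩

/-- A subgroup of index at most three with order divisible by 240 is everything. -/
theorem perm_six_top (R : Subgroup (Equiv.Perm (Fin 6))) (h : 240 ∣ Nat.card R) : R = ⊤ := by
  classical
  have hc := R.card_mul_index
  rw [Nat.card_perm, Nat.card_fin, show Nat.factorial 6 = 720 from rfl] at hc
  obtain ⟨k, hk⟩ := h
  have hpos : 0 < Nat.card R := Nat.card_pos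
  have hidx : R.index ≤ 3 := by
    rw [hk] at hc hpos
    have h1 : 1 ≤ k := by omega
    nlinarith [Nat.mul_le_mul_left (240 * R.index) h1]
  set K := R.normalCore with hK
  have hK6 : K.index ∣ 6 := by
    rw [hK, normalCore_eq_ker, index_ker]
    refine (card_subgroup_dvd_card _).trans ?_
    rw [Nat.card_perm, ← index_eq_card]
    have hi0 : R.index ≠ 0 := index_ne_zero_of_finite
    interval_cases R.index <;> decide
  have hmem : ∀ x : Equiv.Perm (Fin 6), x ^ 5 = 1 → x ∈ K := fun x hx => by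
    have h1 : x ^ 6 ∈ K := by
      obtain ⟨j, hj⟩ := hK6
      have e : x ^ (K.index * j) ∈ K := by
        rw [pow_mul]; exact pow_mem (pow_index_mem K x) j
      exact (congrArg (fun n : ℕ => x ^ n) hj.symm) ▸ e
    have e : x ^ 6 = x := by
      show x ^ (5 + 1) = x
      rw [pow_succ, hx, one_mul]
    exact e ▸ h1
  have halt : alternatingGroup (Fin 6) ≤ K := by
    rw [← Equiv.Perm.closure_three_cycles_eq_alternating, closure_le]
    intro f hf
    have h1 : IsConj (fiveA * fiveB) f := Equiv.Perm.isConj_iff_cycleType_eq.2 (five_facts.2.2.trans hf.symm)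
    obtain ⟨c, rfl⟩ := isConj_iff.1 h1
    exact (normalCore_normal R).conj_mem _ (mul_mem (hmem _ five_facts.1) (hmem _ five_facts.2.1)) c
  have h360 : 360 ≤ Nat.card R := by
    have := card_le_of_le (halt.trans R.normalCore_le)
    rwa [nat_card_alternatingGroup, Nat.card_fin] at this
  refine eq_top_of_card_eq R ?_
  rw [Nat.card_perm, Nat.card_fin, show Nat.factorial 6 = 720 from rfl]
  rw [hk] at hc h360 ⊢
  have : k * R.index = 3 := by linarith
  have hk3 : k ≤ 3 := Nat.le_of_dvd (by norm_num) ⟨_, this.symm⟩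
  interval_cases k <;> omega

namespace Data

variable {H : Type u} [Group H] [Finite H] (S : Data H)
variable (hN : Nat.card ↥(normalizer (E6.map S.ψ : Set H)) = 1536) (hne : normalizer (E6.map S.ψ : Set H) ≠ ⊤)
include hN hne

/-- The group is the centraliser in the alternating group. -/
theorem recognise : Nonempty (H ≃* Mh) := by
  classical
  haveI : Fact (Nat.Prime 2) := ⟨Nat.prime_two⟩
  haveI hAn := S.A_normal
  obtain ⟨k, ho⟩ := S.orb_cases hN hne
  obtain ⟨tlin, t31, tinj, tw⟩ := tau_facts k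
  let τ : Fin 32 ≃ Fin 32 := Equiv.ofBijective (tau k) (Finite.injective_iff_bijective.1 fun a b h => tinj a b h)
  have τa : ∀ a, τ a = tau k a := fun _ => rfl
  have τlin : ∀ a b, τ.symm (xor5 a b) = xor5 (τ.symm a) (τ.symm b) := fun a b => τ.injective (by
    rw [τ.apply_symm_apply, τa, tlin, ← τa, ← τa, τ.apply_symm_apply, τ.apply_symm_apply])
  let f : H → Fin 32 → Fin 32 := fun g a => τ.symm (S.act g (τ a))
  have flin : ∀ g a b, f g (xor5 a b) = xor5 (f g a) (f g b) := fun g a b => by
    show τ.symm (S.act g (τ (xor5 a b))) = xor5 (τ.symm _) (τ.symm _)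
    rw [τa, tlin, ← τa, ← τa, S.act_xor, τlin]
  have fw : ∀ g a, wTwo (f g a) = wTwo a := fun g a => by
    rw [tw, tw, ← ho, ← ho, ← τa, ← τa]
    show S.orb (τ (τ.symm _)) = _
    rw [τ.apply_symm_apply, S.orb_act_iff]
  have finj : ∀ g a b, f g a = f g b → a = b := fun g a b h => τ.injective (S.act_inj g (τ.symm.injective h))
  have f31 : ∀ g, f g 31 = 31 := fun g => by
    show τ.symm (S.act g (τ 31)) = 31
    rw [τa, t31, S.act_alpha, Equiv.symm_apply_eq, τa, t31]
  have f0 : ∀ g, f g 0 = 0 := fun g => by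
    rw [← xor_laws.2.2.1 31, flin, f31]
  -- the permutation of the pairs
  have hperm : ∀ g, ∃ σ, ∀ a, f g a = pact σ a := by
    intro g
    obtain ⟨c1, c2, c3, c4, c12, c23, c34, c13, c14, c24, c123, c234, d1, d2, d3, d4⟩ := chain_base
    have hmem : ∀ {x}, wTwo x = true → f g x ∈ wList := fun {x} hx =>
      List.mem_filter.2 ⟨List.mem_finRange _, (fw g x).trans hx⟩
    have h := chain_spec
    simp only [List.all_eq_true, Bool.or_eq_true, Bool.not_eq_true', Bool.and_eq_true, decide_eq_true_eq] at h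
    have h1 := ((h _ (hmem c1) _ (hmem c2)).resolve_left (by rw [← flin, fw, c12]; decide))
    have h2 := (h1 _ (hmem c3)).resolve_left (by
      rw [← flin, fw, c23, ← flin, fw, c13]
      simp [show f g 3 ≠ f g 12 from fun e => absurd (finj g _ _ e) (by decide)])
    have h3 := (h2 _ (hmem c4)).resolve_left (by
      rw [← flin, fw, c34, ← flin, fw, c14, ← flin, fw, c24, ← flin, ← flin, fw, c123, ← flin, ← flin, fw, c234]
      simp [show f g 3 ≠ f g 24 from fun e => absurd (finj g _ _ e) (by decide),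
        show f g 6 ≠ f g 24 from fun e => absurd (finj g _ _ e) (by decide)])
    obtain ⟨⟨⟨⟨hinj, e1⟩, e2⟩, e3⟩, e4⟩ := h3
    let σ : Equiv.Perm (Fin 6) := Equiv.ofBijective (chainPerm (f g 3) (f g 6) (f g 12) (f g 24))
      (Finite.injective_iff_bijective.1 fun i j => hinj i j)
    have hd : ∀ i j : Fin 6, i ≠ j → duad (σ i) (σ j) = pact σ (duad i j) := fun i j h => (pact_duad σ h).symm
    have b1 : f g 3 = pact σ 3 := by conv_rhs => rw [← d1, ← hd _ _ (by decide)]
                                     exact e1.symm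
    have b2 : f g 6 = pact σ 6 := by conv_rhs => rw [← d2, ← hd _ _ (by decide)]
                                     exact e2.symm
    have b3 : f g 12 = pact σ 12 := by conv_rhs => rw [← d3, ← hd _ _ (by decide)]
                                       exact e3.symm
    have b4 : f g 24 = pact σ 24 := by conv_rhs => rw [← d4, ← hd _ _ (by decide)]
                                       exact e4.symm
    refine ⟨σ, fun a => ?_⟩
    obtain ⟨x0, x1, x2, x3, x4, rfl⟩ := chain_gen a
    simp only [flin, pact_xor]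
    cases x0 <;> cases x1 <;> cases x2 <;> cases x3 <;> cases x4 <;>
      simp only [Bool.false_eq_true, if_false, if_true, b1, b2, b3, b4, f31, pact_alpha, f0, pact_zero]
  choose perm hperm using hperm
  have hfmul : ∀ g h a, f (g * h) a = f g (f h a) := fun g h a => by
    show τ.symm (S.act (g * h) (τ a)) = τ.symm (S.act g (τ (τ.symm (S.act h (τ a)))))
    rw [τ.apply_symm_apply, S.act_mul]
  let π : H →* Equiv.Perm (Fin 6) := MonoidHom.mk' perm fun g h => pact_inj fun a => by
    rw [← hperm, hfmul, hperm, hperm, ← pact_mul]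
  have hπ : ∀ g a, S.act g (τ a) = τ (pact (π g) a) := fun g a => by
    show _ = τ (pact (perm g) a)
    rw [← hperm g a]
    exact (τ.apply_symm_apply _).symm
  have hker : ∀ g, π g = 1 ↔ g ∈ S.A := by
    refine fun g => ⟨fun h => S.mem_of_act fun a => ?_, fun hg => ?_⟩
    · have := hπ g (τ.symm a)
      rwa [τ.apply_symm_apply, h, pact_one, τ.apply_symm_apply] at this
    · obtain ⟨b, rfl⟩ := S.mem_A.1 hg
      refine pact_inj fun a => τ.injective ?_
      rw [pact_one, ← hπ]
      refine S.el_inj ?_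
      rw [S.act_spec, S.el_comm, mul_inv_cancel_right]
  have hkerA : π.ker = S.A := Subgroup.ext hker
  -- transitivity on the duads
  have h15 : 15 ∣ Nat.card π.range := by
    let W : Type := {a : Fin 32 // wTwo a = true}
    letI : MulAction π.range W :=
      { smul := fun r a => ⟨pact (r : Equiv.Perm (Fin 6)) a.1, by
          obtain ⟨g, hg⟩ := r.2
          rw [← hg, show pact (π g) a.1 = f g a.1 from (hperm g a.1).symm, fw]
          exact a.2⟩
        one_smul := fun a => Subtype.ext (pact_one a.1)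
        mul_smul := fun r s a => Subtype.ext (pact_mul _ _ a.1) }
    haveI : MulAction.IsPretransitive π.range W := by
      refine ⟨fun a b => ?_⟩
      have hz : ∀ c : W, ∃ g, S.act g 16 = τ c.1 := fun c => S.orb_iff.1 (by rw [τa, ho, ← tw]; exact c.2)
      obtain ⟨g, hg⟩ := hz a
      obtain ⟨g', hg'⟩ := hz b
      refine ⟨⟨π (g' * g⁻¹), _, rfl⟩, Subtype.ext (τ.injective ?_)⟩
      show τ (pact (π (g' * g⁻¹)) a.1) = τ b.1
      rw [← hπ, ← hg, ← hg', S.act_mul, S.act_inv_act]
    obtain ⟨a0⟩ : Nonempty W := ⟨⟨3, chain_base.1⟩⟩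
    have h1 := MulAction.index_stabilizer_of_transitive π.range a0
    have h2 : Nat.card W = 15 := by
      rw [Nat.card_eq_fintype_card]; decide +kernel
    rw [← h2, ← h1]
    exact index_dvd_card _
  have hcard : Nat.card H = 32 * Nat.card π.range := by
    rw [← S.card_A, ← hkerA, ← index_ker, Subgroup.card_mul_index]
  have h16 : 16 ∣ Nat.card π.range := by
    have h := card_subgroup_dvd_card (S.T : Subgroup H)
    rw [hcard, S.T_eq, ← Nat.card_congr (MonoidHom.ofInjective S.inj).toEquiv, card_Sm] at h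
    omega
  have htop : π.range = ⊤ := perm_six_top _ (Nat.Coprime.mul_dvd_of_dvd_of_dvd (by norm_num : Nat.Coprime 15 16) h15 h16)
  rw [htop, card_top, Nat.card_perm, Nat.card_fin] at hcard
  norm_num [Nat.factorial] at hcard
  -- the splitting
  let A0 : Subgroup H :=
    { carrier := Set.range S.ul
      one_mem' := ⟨0, S.ul_zero⟩
      mul_mem' := by
        rintro _ _ ⟨u, rfl⟩ ⟨v, rfl⟩
        obtain ⟨w, hw⟩ := uP_mul u v
        refine ⟨w, ?_⟩
        show _ = S.ψ _ * S.ψ _
        rw [← map_mul]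
        exact congrArg S.ψ (Subtype.ext (by show lft (uP w) = lft (uP u) * lft (uP v); rw [← map_mul, hw]))
      inv_mem' := by
        rintro _ ⟨u, rfl⟩
        refine ⟨uInv u, eq_inv_of_mul_eq_one_left ?_⟩
        show S.ψ _ * S.ψ _ = 1
        rw [← map_mul, ← map_one S.ψ]
        exact congrArg S.ψ (Subtype.ext (by
          show lft (uP (uInv u)) * lft (uP u) = 1
          rw [← map_mul, show uP (uInv u) * uP u = 1 from Equiv.ext fun i => (uFun_inv u i).1, map_one])) }
  haveI : IsMulCommutative S.A := ⟨⟨fun a b => Subtype.ext (S.A_comm a.2 b.2)⟩⟩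
  obtain ⟨Kc, hKc⟩ := Cfsg.Lib.SolvStruct.exists_complement_averaging (K := S.A) (U := (S.T : Subgroup H)) S.cfg.le
    (by
      rw [S.card_A, show (32 : ℕ) = 2 ^ 5 from rfl]
      exact Nat.Coprime.pow_left 5 ((Nat.prime_two.coprime_iff_not_dvd).2 S.T.not_dvd_index))
    A0 (by rintro _ ⟨u, rfl⟩; exact S.ul_mem u)
    (eq_bot_iff.2 fun x hx => by
      obtain ⟨⟨u, rfl⟩, hA⟩ := mem_inf.1 hx
      have hu : u = 0 := faithful u fun a => S.el_inj (by
        rw [← S.ul_conj, S.A_comm hA (S.el_mem a), mul_inv_cancel_right])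
      rw [hu, S.ul_zero]; exact one_mem _)
    (le_antisymm (sup_le S.cfg.le (by rintro _ ⟨u, rfl⟩; exact S.ul_mem u)) fun x hx => by
      obtain ⟨b, u, rfl⟩ := S.mem_T.1 hx
      exact mul_mem (mem_sup_left (S.el_mem b)) (mem_sup_right ⟨u, rfl⟩))
  have hbij : Function.Bijective (π.comp Kc.subtype) := by
    refine ⟨(injective_iff_map_eq_one _).2 fun x hx => Subtype.ext ?_, fun σ => ?_⟩
    · exact disjoint_def.1 hKc.disjoint ((hker _).1 hx) x.2
    · obtain ⟨g, hg⟩ : σ ∈ π.range := htop ▸ mem_top σ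
      obtain ⟨⟨a, y⟩, hay⟩ := hKc.2 g
      refine ⟨y, ?_⟩
      rw [← hg, ← hay]
      show π (y : H) = π ((a : H) * y)
      rw [map_mul, (hker _).2 a.2, one_mul]
  let eK : ↥Kc ≃* Equiv.Perm (Fin 6) := MulEquiv.ofBijective (π.comp Kc.subtype) hbij
  let sect : Equiv.Perm (Fin 6) →* H := Kc.subtype.comp eK.symm.toMonoidHom
  have hsect : ∀ σ, π (sect σ) = σ := fun σ => eK.apply_symm_apply σ
  let eH : Fin 32 × Equiv.Perm (Fin 6) → H := fun p => S.el (τ p.1) * sect p.2
  have hlaw : ∀ a b σ ρ, eH (a, σ) * eH (b, ρ) = eH (xor5 a (pact σ b), σ * ρ) := fun a b σ ρ => by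
    show S.el (τ a) * sect σ * (S.el (τ b) * sect ρ) = S.el (τ (xor5 a (pact σ b))) * sect (σ * ρ)
    have h1 := hπ (sect σ) b
    rw [hsect] at h1
    rw [map_mul, show τ (xor5 a (pact σ b)) = xor5 (τ a) (τ (pact σ b)) from tlin _ _, ← h1, ← S.el_mul, S.act_spec]
    group
  have hbijH : Function.Bijective eH := by
    refine ⟨?_, fun g => ?_⟩
    · rintro ⟨a, σ⟩ ⟨b, ρ⟩ h
      have hs : σ = ρ := by
        have := congrArg π h
        simp only [eH, map_mul, (hker _).2 (S.el_mem _), one_mul, hsect] at this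
        exact this
      subst hs
      exact Prod.ext (τ.injective (S.el_inj (mul_right_cancel h))) rfl
    · obtain ⟨b, hb⟩ := S.mem_A.1 ((hker (g * (sect (π g))⁻¹)).1 (by rw [map_mul, map_inv, hsect, mul_inv_cancel]))
      refine ⟨(τ.symm b, π g), ?_⟩
      show S.el (τ (τ.symm b)) * sect (π g) = g
      rw [τ.apply_symm_apply, ← hb, inv_mul_cancel_right]
  let eM : Fin 32 × Equiv.Perm (Fin 6) ≃ Mh := Equiv.ofBijective _ coord_bij
  let e : H ≃ Mh := (Equiv.ofBijective eH hbijH).symm.trans eM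
  refine ⟨MulEquiv.mk' e fun x y => ?_⟩
  obtain ⟨⟨a, σ⟩, rfl⟩ := hbijH.2 x
  obtain ⟨⟨b, ρ⟩, rfl⟩ := hbijH.2 y
  rw [hlaw]
  have he : ∀ p, e (eH p) = eM p := fun p => congrArg eM ((Equiv.ofBijective eH hbijH).symm_apply_apply p)
  rw [he, he, he]
  exact (law a b σ ρ).symm

end Data

/-- Recognition of the centraliser of a fixed point free involution in the alternating group of degree twelve. -/
theorem cf_recognition {H : Type u} [Group H] [Finite H] (hO : Cfsg.oddCore H = ⊥) (psi : ↥Sm →* H)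
    (hinj : Function.Injective psi) (hsyl : ¬ 2 ∣ psi.range.index)
    (hc : psi ⟨αm, pa_mem_Sm 21⟩ ∈ Subgroup.center H)
    (hcl : Cfsg.IsStronglyClosed (V5.map psi) psi.range)
    (hN : Nat.card ↥(normalizer (E6.map psi : Set H)) = 1536)
    (hne : normalizer (E6.map psi : Set H) ≠ ⊤) : Nonempty (H ≃* Mh) :=
  Data.recognise ⟨psi, hinj, hsyl, hc, hcl, hO⟩ hN hne

end Cfsg.Lib.CoThreeM.Cf
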