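import Cfsg.Agent.AltTwelveType.Model

/-!
The centraliser of the fixed point free involution on twelve points as flips of six pairs by permutations of them.
-/

set_option autoImplicit false
set_option maxRecDepth 100000
set_option maxHeartbeats 1000000

namespace Cfsg.Lib.CoThreeM.Cf

open Cfsg.Lib.AltTwelveType

/-- the six flips of a code -/
def bit6 (a : Fin 32) (i : Fin 6) : Bool :=
  decide (((a.val + 32 * (((List.range 5).map fun j => a.val / 2 ^ j % 2).sum % 2)) / 2 ^ i.val) % 2 = 1)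

/-- the code of six flips -/
def enc (v : Fin 6 → Bool) : Fin 32 :=
  ⟨(((List.finRange 6).map fun i => if v i then 2 ^ i.val else 0).sum) % 32, Nat.mod_lt _ (by norm_num)⟩

/-- addition of codes -/
def xor5 (a b : Fin 32) : Fin 32 := ⟨(a.val ^^^ b.val) % 32, Nat.mod_lt _ (by norm_num)⟩

/-- an even number of flips -/
def evenV (v : Fin 6 → Bool) : Prop := (Finset.univ.filter fun i => v i = true).card % 2 = 0

instance (v : Fin 6 → Bool) : Decidable (evenV v) := by unfold evenV; infer_instance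

theorem bit6_even : ∀ a : Fin 32, evenV (bit6 a) := by decide +kernel
theorem bit6_enc : ∀ v : Fin 6 → Bool, evenV v → ∀ i, bit6 (enc v) i = v i := by decide +kernel
theorem enc_bit6 : ∀ a : Fin 32, enc (bit6 a) = a := by decide +kernel

/-- the point map of a flip -/
def vFun (a : Fin 32) (x : Fin 12) : Fin 12 :=
  if bit6 a ⟨x.val / 2, by omega⟩ then ⟨(x.val ^^^ 1) % 12, Nat.mod_lt _ (by norm_num)⟩ else x

theorem vFun_invol : ∀ a : Fin 32, ∀ x : Fin 12, vFun a (vFun a x) = x := by decide +kernel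
theorem vFun_add : ∀ a b : Fin 32, ∀ x : Fin 12, vFun (xor5 a b) x = vFun a (vFun b x) := by decide +kernel
theorem vFun_inj : ∀ a b : Fin 32, (∀ x : Fin 12, vFun a x = vFun b x) → a = b := by decide +kernel

/-- a flip as a permutation -/
def vPerm (a : Fin 32) : Equiv.Perm (Fin 12) := ⟨vFun a, vFun a, vFun_invol a, vFun_invol a⟩

theorem vPerm_sign : ∀ a : Fin 32, Equiv.Perm.sign (vPerm a) = 1 := by decide +kernel
theorem vPerm_comm : ∀ a : Fin 32, ∀ x : Fin 12, vFun a (αp x) = αp (vFun a x) := by decide +kernel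

/-- a flip in the model -/
def va (a : Fin 32) : Mh := ⟨vPerm a, mem_of (vPerm_sign a) (vPerm_comm a)⟩

theorem va_mul (a b : Fin 32) : va a * va b = va (xor5 a b) :=
  Subtype.ext (Equiv.ext fun x => (vFun_add a b x).symm)

theorem va_inj {a b : Fin 32} (h : va a = va b) : a = b :=
  vFun_inj a b fun x => Equiv.congr_fun (congrArg Subtype.val h) x

theorem va_zero : va 0 = 1 := Subtype.ext (Equiv.ext (by decide +kernel))
theorem va_sq (a : Fin 32) : va a * va a = 1 := by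
  rw [va_mul, show xor5 a a = 0 from (by decide +kernel : ∀ a : Fin 32, xor5 a a = 0) a, va_zero]
theorem va_alpha : va 31 = αm := Subtype.ext (Equiv.ext (by decide +kernel))

/-- the point map of a permutation of the pairs -/
def lFun (σ : Equiv.Perm (Fin 6)) (x : Fin 12) : Fin 12 :=
  ⟨2 * (σ ⟨x.val / 2, by omega⟩).val + x.val % 2, by omega⟩

theorem lFun_mul (σ ρ : Equiv.Perm (Fin 6)) (x : Fin 12) : lFun (σ * ρ) x = lFun σ (lFun ρ x) := by
  have hd : (⟨(lFun ρ x).val / 2, by omega⟩ : Fin 6) = ρ ⟨x.val / 2, by omega⟩ :=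
    Fin.ext (show (2 * (ρ ⟨x.val / 2, by omega⟩).val + x.val % 2) / 2 = _ by omega)
  refine Fin.ext ?_
  show 2 * ((σ * ρ) ⟨x.val / 2, by omega⟩).val + x.val % 2 = 2 * (σ _).val + (lFun ρ x).val % 2
  rw [hd, show (lFun ρ x).val % 2 = x.val % 2 from
    show (2 * (ρ ⟨x.val / 2, by omega⟩).val + x.val % 2) % 2 = _ by omega]
  rfl

theorem lFun_one (x : Fin 12) : lFun 1 x = x :=
  Fin.ext (show 2 * (x.val / 2) + x.val % 2 = x.val by omega)

/-- a permutation of the pairs as a permutation of the points -/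
def lPerm : Equiv.Perm (Fin 6) →* Equiv.Perm (Fin 12) where
  toFun σ := ⟨lFun σ, lFun σ⁻¹,
    fun x => by rw [← lFun_mul, inv_mul_cancel, lFun_one],
    fun x => by rw [← lFun_mul, mul_inv_cancel, lFun_one]⟩
  map_one' := Equiv.ext lFun_one
  map_mul' σ ρ := Equiv.ext (lFun_mul σ ρ)

theorem lPerm_swap : ∀ i j : Fin 6, Equiv.Perm.sign (lPerm (Equiv.swap i j)) = 1 := by decide +kernel

theorem lPerm_sign (σ : Equiv.Perm (Fin 6)) : Equiv.Perm.sign (lPerm σ) = 1 := by
  induction σ using Equiv.Perm.swap_induction_on with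
  | one => rw [map_one, map_one]
  | swap_mul f x y _ ih => rw [map_mul, map_mul, lPerm_swap, ih, one_mul]

theorem αp_eq : ∀ x : Fin 12, αp x = ⟨(x.val ^^^ 1) % 12, Nat.mod_lt _ (by norm_num)⟩ := by decide +kernel

theorem pair_spec : ∀ x : Fin 12, ((x.val ^^^ 1) % 12) / 2 = x.val / 2 ∧ ((x.val ^^^ 1) % 12) % 2 = 1 - x.val % 2 := by
  decide +kernel

theorem lPerm_comm (σ : Equiv.Perm (Fin 6)) (x : Fin 12) : lFun σ (αp x) = αp (lFun σ x) := by
  rw [αp_eq x, αp_eq (lFun σ x)]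
  obtain ⟨h1, h2⟩ := pair_spec x
  obtain ⟨h3, h4⟩ := pair_spec (lFun σ x)
  refine Fin.ext ?_
  show 2 * (σ ⟨(x.val ^^^ 1) % 12 / 2, _⟩).val + (x.val ^^^ 1) % 12 % 2 = ((lFun σ x).val ^^^ 1) % 12
  rw [show (⟨(x.val ^^^ 1) % 12 / 2, by omega⟩ : Fin 6) = ⟨x.val / 2, by omega⟩ from Fin.ext h1, h2]
  have e : (lFun σ x).val = 2 * (σ ⟨x.val / 2, by omega⟩).val + x.val % 2 := rfl
  omega

/-- a permutation of the pairs in the model -/
def lft : Equiv.Perm (Fin 6) →* Mh :=
  lPerm.codRestrict _ fun σ => mem_of (lPerm_sign σ) (lPerm_comm σ)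

/-- the action on the codes -/
def pact (σ : Equiv.Perm (Fin 6)) (a : Fin 32) : Fin 32 := enc fun i => bit6 a (σ.symm i)

theorem bit6_pact (σ : Equiv.Perm (Fin 6)) (a : Fin 32) (i : Fin 6) : bit6 (pact σ a) i = bit6 a (σ.symm i) := by
  refine bit6_enc _ ?_ i
  have h := bit6_even a
  unfold evenV at h ⊢
  rw [← h]
  congr 1
  exact Finset.card_equiv σ.symm fun i => by simp

theorem vFun_spec : ∀ a : Fin 32, ∀ x : Fin 12,
    (vFun a x).val / 2 = x.val / 2 ∧
    (vFun a x).val % 2 = if bit6 a ⟨x.val / 2, by omega⟩ then 1 - x.val % 2 else x.val % 2 := by decide +kernel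

theorem lft_va (σ : Equiv.Perm (Fin 6)) (a : Fin 32) : lft σ * va a = va (pact σ a) * lft σ := by
  refine Subtype.ext (Equiv.ext fun x => ?_)
  show lFun σ (vFun a x) = vFun (pact σ a) (lFun σ x)
  obtain ⟨h1, h2⟩ := vFun_spec a x
  obtain ⟨h3, h4⟩ := vFun_spec (pact σ a) (lFun σ x)
  have hd : (⟨(lFun σ x).val / 2, by omega⟩ : Fin 6) = σ ⟨x.val / 2, by omega⟩ :=
    Fin.ext (show (2 * (σ ⟨x.val / 2, by omega⟩).val + x.val % 2) / 2 = _ by omega)
  rw [hd, bit6_pact, Equiv.symm_apply_apply] at h4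
  have e : (lFun σ x).val = 2 * (σ ⟨x.val / 2, by omega⟩).val + x.val % 2 := rfl
  have e' : (lFun σ (vFun a x)).val = 2 * (σ ⟨x.val / 2, by omega⟩).val + (vFun a x).val % 2 := by
    show 2 * (σ _).val + _ = _
    rw [show (⟨(vFun a x).val / 2, by omega⟩ : Fin 6) = ⟨x.val / 2, by omega⟩ from Fin.ext h1]
  refine Fin.ext ?_
  split_ifs at h2 h4 <;> omega

theorem lft_conj (σ : Equiv.Perm (Fin 6)) (a : Fin 32) : lft σ * va a * (lft σ)⁻¹ = va (pact σ a) := by
  rw [lft_va, mul_inv_cancel_right]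

/-- The product rule. -/
theorem law (a b : Fin 32) (σ ρ : Equiv.Perm (Fin 6)) :
    va a * lft σ * (va b * lft ρ) = va (xor5 a (pact σ b)) * lft (σ * ρ) := by
  rw [← va_mul, map_mul, show va a * lft σ * (va b * lft ρ) = va a * (lft σ * va b) * lft ρ by group, lft_va]
  group

theorem pact_xor (σ : Equiv.Perm (Fin 6)) (a b : Fin 32) : pact σ (xor5 a b) = xor5 (pact σ a) (pact σ b) :=
  va_inj (by rw [← va_mul, ← lft_conj, ← lft_conj, ← lft_conj, ← va_mul]; group)

theorem pact_one (a : Fin 32) : pact 1 a = a := enc_bit6 a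

theorem pact_mul (σ ρ : Equiv.Perm (Fin 6)) (a : Fin 32) : pact (σ * ρ) a = pact σ (pact ρ a) :=
  va_inj (by rw [← lft_conj, ← lft_conj, ← lft_conj, map_mul]; group)

/-- The model is the semidirect product. -/
theorem coord_bij : Function.Bijective fun p : Fin 32 × Equiv.Perm (Fin 6) => va p.1 * lft p.2 := by
  have hinj : Function.Injective fun p : Fin 32 × Equiv.Perm (Fin 6) => va p.1 * lft p.2 := by
    rintro ⟨a, σ⟩ ⟨b, ρ⟩ h
    have he : ∀ x : Fin 12, vFun a (lFun σ x) = vFun b (lFun ρ x) := fun x =>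
      Equiv.congr_fun (congrArg Subtype.val h) x
    have hs : σ = ρ := Equiv.ext fun i => by
      have e := congrArg Fin.val (he ⟨2 * i.val, by omega⟩)
      have h1 := (vFun_spec a (lFun σ ⟨2 * i.val, by omega⟩)).1
      have h2 := (vFun_spec b (lFun ρ ⟨2 * i.val, by omega⟩)).1
      have hi : (⟨2 * i.val / 2, by omega⟩ : Fin 6) = i := Fin.ext (show 2 * i.val / 2 = i.val by omega)
      have e1 : (lFun σ ⟨2 * i.val, by omega⟩).val = 2 * (σ i).val + 2 * i.val % 2 :=
        congrArg (fun j => 2 * (σ j).val + 2 * i.val % 2) hi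
      have e2 : (lFun ρ ⟨2 * i.val, by omega⟩).val = 2 * (ρ i).val + 2 * i.val % 2 :=
        congrArg (fun j => 2 * (ρ j).val + 2 * i.val % 2) hi
      exact Fin.ext (by omega)
    subst hs
    exact Prod.ext (va_inj (mul_right_cancel h)) rfl
  refine ⟨hinj, ?_⟩
  refine (hinj.bijective_of_nat_card_le ?_).2
  rw [card_Mh, Nat.card_prod, Nat.card_perm, Nat.card_fin, Nat.card_fin]
  norm_num [Nat.factorial]

/-- the sixteen permutations of the pairs in the Sylow subgroup -/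
def uFun (u : Fin 16) (i : Fin 6) : Fin 6 :=
  let b := i.val / 2
  let b' := if u.val / 8 = 1 ∧ b < 2 then 1 - b else b
  ⟨(2 * b' + ((i.val % 2) + u.val / 2 ^ b') % 2) % 6, Nat.mod_lt _ (by norm_num)⟩

/-- inverse code -/
def uInv (u : Fin 16) : Fin 16 :=
  if u.val / 8 = 1 then ⟨(8 + 4 * (u.val / 4 % 2) + 2 * (u.val % 2) + u.val / 2 % 2) % 16, Nat.mod_lt _ (by norm_num)⟩
  else u

theorem uFun_inv : ∀ u : Fin 16, ∀ i : Fin 6, uFun (uInv u) (uFun u i) = i ∧ uFun u (uFun (uInv u) i) = i := by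
  decide +kernel

/-- a permutation of the pairs in the Sylow subgroup -/
def uP (u : Fin 16) : Equiv.Perm (Fin 6) :=
  ⟨uFun u, uFun (uInv u), fun i => (uFun_inv u i).1, fun i => (uFun_inv u i).2⟩

theorem uP_mul : ∀ u v : Fin 16, ∃ w : Fin 16, uP u * uP v = uP w := by decide +kernel
theorem uP_inj : ∀ u v : Fin 16, uP u = uP v → u = v := by decide +kernel
theorem uP_zero : uP 0 = 1 := by decide +kernel

/-- the flips read off a map -/
def aOf (f : Fin 12 → Fin 12) : Fin 32 :=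
  enc fun j => (List.finRange 6).any fun i =>
    decide ((f ⟨2 * i.val, by omega⟩).val / 2 = j.val ∧ (f ⟨2 * i.val, by omega⟩).val % 2 = 1)

/-- the permutation of the pairs read off a map -/
def uOf (f : Fin 12 → Fin 12) : Fin 16 :=
  let s := (f 0).val / 4 % 2
  let e := fun b : Fin 3 => (f ⟨4 * (if s = 1 ∧ b.val < 2 then 1 - b.val else b.val), by split_ifs <;> omega⟩).val / 2 % 2
  ⟨(e 0 + 2 * e 1 + 4 * e 2 + 8 * s) % 16, Nat.mod_lt _ (by norm_num)⟩

theorem Sm_table : ∀ a : Fin 64, ∀ k : Fin 8, ∀ x : Fin 12,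
    aFun a (kFun ⟨k.val, by omega⟩ x) =
      vFun (aOf fun y => aFun a (kFun ⟨k.val, by omega⟩ y))
        (lFun (uP (uOf fun y => aFun a (kFun ⟨k.val, by omega⟩ y))) x) := by decide +kernel

/-- The Sylow subgroup in the new coordinates. -/
theorem mem_Sm_iff {m : Mh} : m ∈ Sm ↔ ∃ a u, m = va a * lft (uP u) := by
  have hsub : (Sm : Set Mh) ⊆ Set.range fun p : Fin 32 × Fin 16 => va p.1 * lft (uP p.2) := by
    rintro _ ⟨a, k, hk, rfl⟩
    exact ⟨(aOf fun y => aFun a (kFun k y), uOf fun y => aFun a (kFun k y)),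
      Subtype.ext (Equiv.ext fun x => (Sm_table a ⟨k.val, hk⟩ x).symm)⟩
  have heq : (Sm : Set Mh) = Set.range fun p : Fin 32 × Fin 16 => va p.1 * lft (uP p.2) := by
    refine Set.eq_of_subset_of_ncard_le hsub ?_ (Set.toFinite _)
    rw [← Set.image_univ]
    refine (Set.ncard_image_le Set.finite_univ).trans ?_
    rw [Set.ncard_univ, ← Nat.card_coe_set_eq, SetLike.coe_sort_coe, card_Sm]
    simp
  constructor
  · intro h
    obtain ⟨p, hp⟩ := (Set.ext_iff.1 heq m).1 h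
    exact ⟨p.1, p.2, hp.symm⟩
  · rintro ⟨a, u, rfl⟩
    exact (Set.ext_iff.1 heq _).2 ⟨(a, u), rfl⟩

theorem va_mem_Sm (a : Fin 32) : va a ∈ Sm := mem_Sm_iff.2 ⟨a, 0, by rw [uP_zero, map_one, mul_one]⟩
theorem lft_mem_Sm (u : Fin 16) : lft (uP u) ∈ Sm := mem_Sm_iff.2 ⟨0, u, by rw [va_zero, one_mul]⟩

theorem va_lft_fix : ∀ a : Fin 32, ∀ u : Fin 16, (∀ x : Fin 12, (vFun a (lFun (uP u) x)).val / 2 = x.val / 2) → u = 0 := by
  decide +kernel

/-- the elementary subgroup of order thirty two -/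
def V5 : Subgroup ↥Sm where
  carrier := {m | ∀ i : Fin 12, ((m : Mh).1 i).val / 2 = i.val / 2}
  one_mem' := fun _ => rfl
  mul_mem' := fun {m n} hm hn i => (hm ((n : Mh).1 i)).trans (hn i)
  inv_mem' := fun {m} hm i => by
    have h := hm (((m⁻¹ : ↥Sm) : Mh).1 i)
    have e : (m : Mh).1 (((m⁻¹ : ↥Sm) : Mh).1 i) = i := by
      rw [Subgroup.coe_inv, Subgroup.coe_inv, ← Equiv.Perm.mul_apply, mul_inv_cancel, Equiv.Perm.one_apply]
    rw [e] at h
    exact h.symm

theorem mem_V5_iff {m : ↥Sm} : m ∈ V5 ↔ ∃ a, (m : Mh) = va a := by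
  constructor
  · intro h
    obtain ⟨a, u, e⟩ := mem_Sm_iff.1 m.2
    refine ⟨a, ?_⟩
    have hu : u = 0 := va_lft_fix a u fun x => by
      have h1 := h x
      rw [e] at h1
      exact h1
    rw [e, hu, uP_zero, map_one, mul_one]
  · rintro ⟨a, e⟩ i
    rw [e]
    exact (vFun_spec a i).1

/-- the elementary subgroup of order sixty four -/
def E6 : Subgroup ↥Sm where
  carrier := {m | ∃ a : Fin 64, (m : Mh) = pa a}
  one_mem' := ⟨0, pa_zero.symm⟩
  mul_mem' := fun {m n} ⟨a, ha⟩ ⟨b, hb⟩ => ⟨axor a b, by rw [Subgroup.coe_mul, ha, hb, pa_mul]⟩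
  inv_mem' := fun {m} ⟨a, ha⟩ => ⟨a, by rw [Subgroup.coe_inv, ha, pa_inv]⟩

end Cfsg.Lib.CoThreeM.Cf
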