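import Cfsg.Agent.CoThreeM.Cf.Facts
import Cfsg.Agent.Goldschmidt.Final
import Cfsg.Agent.Goldschmidt.Consequences.ThmA.Structure
import Cfsg.Agent.AbelianCentExt.Basic
import Cfsg.Agent.Small.Toolkit

/-!
A group without odd core with the Sylow subgroup of the centraliser in the alternating group of degree twelve,
its central involution central and its elementary subgroup of order thirty two strongly closed: the latter is normal.
-/

set_option autoImplicit false
set_option linter.unusedSectionVars false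
set_option linter.style.haveILetI false
set_option maxRecDepth 100000

namespace Cfsg.Lib.CoThreeM.Cf

open Subgroup Cfsg.Lib.AltTwelveType
open Cfsg.Lib.Goldschmidt Cfsg.Lib.Goldschmidt.ThmA Cfsg.Lib.Components

universe u

/-- the hypotheses -/
structure Data (H : Type u) [Group H] where
  /-- the Sylow subgroup -/
  ψ : ↥Sm →* H
  inj : Function.Injective ψ
  odd : ¬ 2 ∣ ψ.range.index
  central : ψ ⟨αm, pa_mem_Sm 21⟩ ∈ center H
  closed : Cfsg.IsStronglyClosed (V5.map ψ) ψ.range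
  core : Cfsg.oddCore H = ⊥

namespace Data

variable {H : Type u} [Group H] [Finite H] (S : Data H)

/-- the subgroup of order thirty two -/
def A : Subgroup H := V5.map S.ψ
/-- a flip -/
def el (a : Fin 32) : H := S.ψ ⟨va a, va_mem_Sm a⟩
/-- a permutation of the pairs -/
def ul (u : Fin 16) : H := S.ψ ⟨lft (uP u), lft_mem_Sm u⟩

theorem el_mul (a b : Fin 32) : S.el a * S.el b = S.el (xor5 a b) := by
  rw [el, el, ← map_mul]; exact congrArg S.ψ (Subtype.ext (va_mul a b))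

theorem el_zero : S.el 0 = 1 := by
  rw [el, show (⟨va 0, va_mem_Sm 0⟩ : ↥Sm) = 1 from Subtype.ext va_zero, map_one]

theorem el_sq (a : Fin 32) : S.el a * S.el a = 1 := by
  rw [el, ← map_mul, show (⟨va a, va_mem_Sm a⟩ : ↥Sm) * ⟨va a, va_mem_Sm a⟩ = 1 from Subtype.ext (va_sq a), map_one]

theorem el_inv (a : Fin 32) : (S.el a)⁻¹ = S.el a := inv_eq_of_mul_eq_one_right (S.el_sq a)

theorem el_inj {a b : Fin 32} (h : S.el a = S.el b) : a = b := va_inj (congrArg Subtype.val (S.inj h))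

theorem el_comm (a b : Fin 32) : S.el a * S.el b = S.el b * S.el a := by
  rw [S.el_mul, S.el_mul, show xor5 a b = xor5 b a from (by decide +kernel : ∀ a b, xor5 a b = xor5 b a) a b]

theorem el_central : S.el 31 ∈ center H := by
  rw [el, show (⟨va 31, va_mem_Sm 31⟩ : ↥Sm) = ⟨αm, pa_mem_Sm 21⟩ from Subtype.ext va_alpha]
  exact S.central

theorem mem_A {x : H} : x ∈ S.A ↔ ∃ a, x = S.el a := by
  constructor
  · rintro ⟨m, hm, rfl⟩
    obtain ⟨a, ha⟩ := mem_V5_iff.1 hm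
    exact ⟨a, congrArg S.ψ (Subtype.ext ha)⟩
  · rintro ⟨a, rfl⟩
    exact ⟨_, mem_V5_iff.2 ⟨a, rfl⟩, rfl⟩

theorem el_mem (a : Fin 32) : S.el a ∈ S.A := S.mem_A.2 ⟨a, rfl⟩

theorem card_A : Nat.card S.A = 32 := by
  rw [← Nat.card_congr (Equiv.ofBijective (fun a : Fin 32 => (⟨S.el a, S.el_mem a⟩ : S.A))
    ⟨fun a b h => S.el_inj (congrArg Subtype.val h), fun x => by
      obtain ⟨a, ha⟩ := S.mem_A.1 x.2; exact ⟨a, Subtype.ext ha.symm⟩⟩), Nat.card_fin]

theorem range_pgroup : IsPGroup 2 S.ψ.range := by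
  refine IsPGroup.of_card (n := 9) ?_
  rw [← Nat.card_congr (MonoidHom.ofInjective S.inj).toEquiv, card_Sm]
  norm_num

/-- the Sylow subgroup -/
noncomputable def T : Sylow 2 H :=
  haveI : Fact (Nat.Prime 2) := ⟨Nat.prime_two⟩
  S.range_pgroup.toSylow S.odd

theorem T_eq : (S.T : Subgroup H) = S.ψ.range := rfl

theorem mem_T {x : H} : x ∈ (S.T : Subgroup H) ↔ ∃ a u, x = S.el a * S.ul u := by
  rw [S.T_eq]
  constructor
  · rintro ⟨m, rfl⟩
    obtain ⟨a, u, e⟩ := mem_Sm_iff.1 m.2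
    exact ⟨a, u, by rw [el, ul, ← map_mul]; exact congrArg S.ψ (Subtype.ext e)⟩
  · rintro ⟨a, u, rfl⟩
    exact ⟨_, map_mul _ _ _⟩

theorem ul_mem (u : Fin 16) : S.ul u ∈ (S.T : Subgroup H) := ⟨_, rfl⟩
theorem el_mem_T (a : Fin 32) : S.el a ∈ (S.T : Subgroup H) := ⟨_, rfl⟩

theorem ul_zero : S.ul 0 = 1 := by
  rw [ul, show (⟨lft (uP 0), lft_mem_Sm 0⟩ : ↥Sm) = 1 from Subtype.ext (by
    show lft (uP 0) = 1
    rw [uP_zero, map_one]), map_one]

theorem ul_conj (u : Fin 16) (a : Fin 32) : S.ul u * S.el a * (S.ul u)⁻¹ = S.el (ua u a) := by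
  rw [el, el, ul, ← map_inv, ← map_mul, ← map_mul]
  exact congrArg S.ψ (Subtype.ext ((lft_conj (uP u) a).trans (by rw [pact_uP])))

theorem conj_el (b : Fin 32) (u : Fin 16) (a : Fin 32) :
    S.el b * S.ul u * S.el a * (S.el b * S.ul u)⁻¹ = S.el (ua u a) := by
  rw [show S.el b * S.ul u * S.el a * (S.el b * S.ul u)⁻¹ = S.el b * (S.ul u * S.el a * (S.ul u)⁻¹) * (S.el b)⁻¹ by
    group, S.ul_conj, S.el_comm, mul_inv_cancel_right]

theorem ul_comm (u : Fin 16) (a : Fin 32) : S.ul u * S.el a * (S.ul u)⁻¹ * (S.el a)⁻¹ = S.el (dd u a) := by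
  rw [S.ul_conj, S.el_inv, S.el_mul]; rfl

theorem A_comm {x y : H} (hx : x ∈ S.A) (hy : y ∈ S.A) : x * y = y * x := by
  obtain ⟨a, rfl⟩ := S.mem_A.1 hx
  obtain ⟨b, rfl⟩ := S.mem_A.1 hy
  exact S.el_comm a b

theorem A_sq {x : H} (hx : x ∈ S.A) : x * x = 1 := by
  obtain ⟨a, rfl⟩ := S.mem_A.1 hx; exact S.el_sq a

theorem cfg : ThmA.Cfg S.T S.A :=
  ⟨Cfsg.Lib.Goldschmidt.goldProp, S.core, by rw [S.T_eq]; exact S.closed, fun _ hx _ hy => S.A_comm hx hy⟩

theorem alpha_core : S.el 31 ∈ Cfsg.pCore 2 H := by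
  haveI : Fact (Nat.Prime 2) := ⟨Nat.prime_two⟩
  haveI : (zpowers (S.el 31)).Normal := ⟨fun x hx g => by
    obtain ⟨i, rfl⟩ := mem_zpowers_iff.1 hx
    rw [mem_center_iff.1 (zpow_mem S.el_central i) g, mul_inv_cancel_right]
    exact zpow_mem (mem_zpowers _) i⟩
  refine Cfsg.Lib.Components.le_pCore (IsPGroup.of_card (n := 1) ?_) (mem_zpowers (S.el 31))
  rw [Nat.card_zpowers, pow_one]
  exact orderOf_eq_prime (by rw [pow_two]; exact S.el_sq 31) fun h =>
    absurd (S.el_inj (h.trans S.el_zero.symm)) (by decide)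

theorem closure_central {x r : H} (hx : x ∈ normalClosure (S.A : Set H)) (hr : r ∈ S.A ⊓ Cfsg.pCore 2 H) :
    x * r = r * x := mem_centralizer_iff.1 (S.cfg.core_central hr) x hx

theorem comp_closure {L : Subgroup H} (hL : Cfsg.IsComponent L) (hm : Mov S.A L) :
    L ≤ normalClosure (S.A : Set H) := by
  rw [S.cfg.normalClosure_eq]
  exact (le_movLayer hL hm).trans le_sup_left

/-- All moved components have elementary abelian Sylow subgroups: there are none. -/
theorem no_abelian_comp (hall : ∀ L ∈ movSet S.A, ∀ x ∈ L, x ∈ (S.T : Subgroup H) → x ∈ S.A) :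
    movSet S.A = ∅ := by
  classical
  haveI : Fact (Nat.Prime 2) := ⟨Nat.prime_two⟩
  have C := S.cfg
  haveI := Fintype.ofFinite {L // L ∈ movSet S.A}
  have htriv : ∀ L ∈ movSet S.A, ∀ z ∈ L, z ∈ centralizer (L : Set H) → z = 1 := by
    rintro L ⟨hL, hm⟩ z hz hzc
    obtain ⟨P, hP⟩ := C.base.sylow_comp hL
    have hmem : ∀ x : ↥L, x ∈ (P : Subgroup ↥L) ↔ (x : H) ∈ (S.T : Subgroup H) := fun x => by rw [hP]; rfl
    obtain ⟨Q, D⟩ := C.data hL hm
    have hcen : center ↥L ≤ (P : Subgroup ↥L) := fun y hy => (hmem y).2 (C.le (D.center_le y y.2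
      (mem_centralizer_iff.2 fun m hm' => congrArg Subtype.val (mem_center_iff.1 hy ⟨m, hm'⟩))))
    have hbot := Cfsg.Lib.AbelianCentExt.eq_bot_of_abelian_sylow (center ↥L) le_rfl (P.2.to_le hcen)
      (qs_perfect hL) P hcen fun x hx y hy => Subtype.ext
        (S.A_comm (hall L ⟨hL, hm⟩ x x.2 ((hmem x).1 hx)) (hall L ⟨hL, hm⟩ y y.2 ((hmem y).1 hy)))
    have h1 : (⟨z, hz⟩ : ↥L) ∈ center ↥L :=
      mem_center_iff.2 fun m => Subtype.ext (mem_centralizer_iff.1 hzc m m.2)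
    rw [hbot, mem_bot] at h1
    exact congrArg Subtype.val h1
  have hone : ∀ s : Finset {L // L ∈ movSet S.A}, ∀ e ∈ ⨆ L ∈ s, (L : Subgroup H),
      (∀ L ∈ s, e ∈ centralizer ((L : Subgroup H) : Set H)) → e = 1 := by
    intro s
    induction s using Finset.induction_on with
    | empty => intro e he _; simpa using he
    | @insert L s hLs ih =>
      intro e he hc
      rw [Finset.iSup_insert] at he
      have hsc : ⨆ L' ∈ s, (L' : Subgroup H) ≤ centralizer ((L : Subgroup H) : Set H) := iSup₂_le fun L' hL' x hx =>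
        comm_of_ne L'.2.1 L.2.1 (fun e' => hLs (by rwa [show L = L' from Subtype.ext e'.symm])) hx
      obtain ⟨e', he', l, hl, rfl⟩ := (Cfsg.Lib.Coprime.mem_sup_of_le_normalizer'
        (hsc.trans (centralizer_le_normalizer _))).1 he
      have hl1 : l = 1 := htriv L L.2 l hl (by
        have := mul_mem (inv_mem (hsc he')) (hc L (Finset.mem_insert_self _ _))
        rwa [inv_mul_cancel_left] at this)
      rw [hl1, mul_one] at hc ⊢
      exact ih e' he' fun L' hL' => hc L' (Finset.mem_insert_of_mem hL')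
  haveI := C.movLayer_normal
  haveI := C.inf_pCore_normal
  -- the two parts meet trivially
  have hER : ∀ x ∈ movLayer S.A, x ∈ S.A ⊓ Cfsg.pCore 2 H → x = 1 := fun x hx hxR =>
    hone Finset.univ x (C.movLayer_eq_iSup ▸ hx) fun L _ => mem_centralizer_iff.2 fun y hy =>
      S.closure_central (S.comp_closure L.2.1 L.2.2 hy) hxR
  refine Set.eq_empty_iff_forall_notMem.2 fun L₀ hL₀ => ?_
  obtain ⟨v, hvA, hvL, hvc⟩ := C.exists_noncentral hL₀.1 hL₀.2
  have hv1 : v ≠ 1 := fun e => hvc (e ▸ one_mem _)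
  -- a fixed element
  set M := S.A ⊓ movLayer S.A
  have hMn : (M.subgroupOf (S.T : Subgroup H)).Normal := ⟨fun y hy x => by
    refine mem_subgroupOf.2 ⟨(mem_normalizer_iff.1 (C.sylow_norm x.2) _).1 (mem_subgroupOf.1 hy).1, ?_⟩
    exact Subgroup.Normal.conj_mem inferInstance _ (mem_subgroupOf.1 hy).2 _⟩
  obtain ⟨e, heM, hec, he1⟩ := Cfsg.Lib.Small.exists_central_of_normal S.T.2 (M.subgroupOf (S.T : Subgroup H))
    (by
      rw [Ne, subgroupOf_eq_bot, disjoint_iff, inf_eq_left.2 (inf_le_left.trans C.le)]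
      intro h
      exact hv1 (mem_bot.1 (h ▸ (⟨hvA, le_movLayer hL₀.1 hL₀.2 hvL⟩ : v ∈ M))))
  obtain ⟨a, ha⟩ := S.mem_A.1 (mem_subgroupOf.1 heM).1
  have haE : S.el a ∈ movLayer S.A := ha ▸ (mem_subgroupOf.1 heM).2
  have ha0 : a ≠ 0 := fun h => he1 (Subtype.ext (ha.trans (h ▸ S.el_zero)))
  have hfix : fixC a = true := (fix_iff a).1 fun u => S.el_inj (by
    have h1 : S.ul u * (e : H) = (e : H) * S.ul u := congrArg Subtype.val (mem_center_iff.1 hec ⟨_, S.ul_mem u⟩)
    rw [ha] at h1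
    rw [← S.ul_conj, h1, mul_inv_cancel_right])
  have h31 : a ≠ 31 := fun h => by
    have h1 := hER _ haE ⟨S.el_mem a, h ▸ S.alpha_core⟩
    exact ha0 (S.el_inj (h1.trans S.el_zero.symm))
  -- so the normal part is the centre
  have hno : ∀ b, b = 15 ∨ b = 16 → S.el b ∉ S.A ⊓ Cfsg.pCore 2 H := by
    intro b hb hbR
    have hx : S.el (xor5 b 31) ∈ S.A ⊓ Cfsg.pCore 2 H := by
      rw [← S.el_mul]; exact mul_mem hbR ⟨S.el_mem 31, S.alpha_core⟩
    have hcases : ∀ a b : Fin 32, fixC a = true → a ≠ 0 → a ≠ 31 → (b = 15 ∨ b = 16) → a = b ∨ a = xor5 b 31 := by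
      decide +kernel
    rcases hcases a b hfix ha0 h31 hb with rfl | rfl
    · exact ha0 (S.el_inj ((hER _ haE hbR).trans S.el_zero.symm))
    · exact ha0 (S.el_inj ((hER _ haE hx).trans S.el_zero.symm))
  have hR : ∀ b, S.el b ∈ S.A ⊓ Cfsg.pCore 2 H → b = 0 ∨ b = 31 := by
    intro b hb
    by_contra hne
    push Not at hne
    rcases reach_fix b hne.1 hne.2 with h | ⟨u, h⟩
    · exact hno b h hb
    · refine hno _ h ?_
      rw [← S.ul_comm]
      exact mul_mem (Subgroup.Normal.conj_mem inferInstance _ hb _) (inv_mem hb)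
  -- the centre is a product of commutators
  have hcm : ∀ u b, S.el (dd u b) ∈ movLayer S.A := by
    intro u b
    obtain ⟨x, -, hxE, -, hr⟩ := C.decomp (S.el_mem b)
    obtain ⟨c, hc⟩ := S.mem_A.1 hr.1
    have hcc : S.el c ∈ center H := by
      rcases hR c (hc ▸ hr) with rfl | rfl
      · rw [S.el_zero]; exact one_mem _
      · exact S.el_central
    have hb : S.el b = x * S.el c := by rw [← hc, mul_inv_cancel_left]
    rw [← S.ul_comm, hb, show S.ul u * (x * S.el c) * (S.ul u)⁻¹ * (x * S.el c)⁻¹ =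
      S.ul u * x * (S.el c * (S.ul u)⁻¹) * (S.el c)⁻¹ * x⁻¹ by group,
      ← mem_center_iff.1 hcc, mul_assoc _ _ (S.el c)⁻¹, mul_inv_cancel_right]
    exact mul_mem (Subgroup.Normal.conj_mem inferInstance x hxE _) (inv_mem hxE)
  have hz : S.el 31 ∈ movLayer S.A := by
    rw [← alpha_commutators, ← S.el_mul]; exact mul_mem (hcm 1 1) (hcm 6 4)
  exact absurd (S.el_inj ((hER _ hz ⟨S.el_mem 31, S.alpha_core⟩).trans S.el_zero.symm)) (by decide)

/-- A moved component with a Sylow subgroup of exponent four is impossible. -/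
theorem comp_elementary {L : Subgroup H} (hL : Cfsg.IsComponent L) (hm : Mov S.A L) {x : H} (hx : x ∈ L)
    (hxT : x ∈ (S.T : Subgroup H)) : x ∈ S.A := by
  classical
  haveI : Fact (Nat.Prime 2) := ⟨Nat.prime_two⟩
  by_contra hxA
  have C := S.cfg
  haveI := C.inf_pCore_normal
  set R := S.A ⊓ Cfsg.pCore 2 H with hRdef
  obtain ⟨P, D⟩ := C.data hL hm
  have hLc := S.comp_closure hL hm
  have hcenR : ∀ k : ↥L, k ∈ center ↥L → (k : H) ∈ R := fun k hk => C.center_le_core hL hm k.2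
    (mem_centralizer_iff.2 fun m hm' => congrArg Subtype.val (mem_center_iff.1 hk ⟨m, hm'⟩))
  have hone : ∀ k : ↥L, zm L k = 1 → (k : H) ∈ R := fun k hk => hcenR k ((QuotientGroup.eq_one_iff k).1 hk)
  have hsur : Function.Surjective (zm L) := QuotientGroup.mk'_surjective _
  have hA_inv : ∀ v : ↥L, (v : H) ∈ S.A → Inv (P : Subgroup (↥L ⧸ center ↥L)) (zm L v) := fun v hv =>
    ⟨(D.mem_iff v).2 (C.le hv), by rw [← map_mul, show v * v = 1 from Subtype.ext (S.A_sq hv), map_one]⟩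
  -- elements of the Sylow subgroup act trivially on both layers
  have hlayer : ∀ u : ↥L, (u : H) ∈ (S.T : Subgroup H) → ∀ a ∈ S.A, (u : H) * a * (u : H)⁻¹ * a⁻¹ ∈ R := by
    intro u hu a ha
    obtain ⟨l, hl, hlc⟩ := D.proj a ha
    have hk : zm L (u * l * u⁻¹ * l⁻¹) = 1 := by
      rw [map_mul, map_mul, map_mul, map_inv, map_inv, ← D.facts.simple.central _ hl _ ((D.mem_iff u).2 hu)]
      group
    have e : (u : H) * a * (u : H)⁻¹ * a⁻¹ = ((u * l * u⁻¹ * l⁻¹ : ↥L) : H) := by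
      simp only [Subgroup.coe_mul, Subgroup.coe_inv]
      have hcu : (u : H)⁻¹ * ((l : H)⁻¹ * a) = (l : H)⁻¹ * a * (u : H)⁻¹ :=
        mem_centralizer_iff.1 hlc (u : H)⁻¹ (inv_mem u.2)
      calc (u : H) * a * (u : H)⁻¹ * a⁻¹ = (u : H) * l * ((l : H)⁻¹ * a * (u : H)⁻¹) * a⁻¹ := by group
        _ = (u : H) * l * ((u : H)⁻¹ * ((l : H)⁻¹ * a)) * a⁻¹ := by rw [hcu]
        _ = _ := by group
    rw [e]
    exact hone _ hk
  have hRc : ∀ u ∈ L, ∀ r ∈ R, u * r = r * u := fun u hu r hr => S.closure_central (hLc hu) hr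
  -- the sizes
  have hlift : ∀ i : {i // Inv (P : Subgroup (↥L ⧸ center ↥L)) i}, ∃ v : ↥L, (v : H) ∈ S.A ∧ zm L v = i.1 :=
    fun i => by obtain ⟨v, h1, -, h2⟩ := D.lift i.1 i.2; exact ⟨v, h1, h2⟩
  choose vl hvl1 hvl2 using hlift
  have hcount : Nat.card {i // Inv (P : Subgroup (↥L ⧸ center ↥L)) i} * Nat.card R ≤ 32 := by
    rw [← S.card_A, ← Nat.card_prod]
    refine Nat.card_le_card_of_injective (fun p => (⟨(vl p.1 : H) * p.2, mul_mem (hvl1 p.1) p.2.2.1⟩ : S.A)) ?_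
    rintro ⟨i, r⟩ ⟨j, q⟩ h
    have h' : (vl i : H) * r = (vl j : H) * q := congrArg Subtype.val h
    have hij : i = j := by
      refine Subtype.ext ?_
      rw [← hvl2 i, ← hvl2 j]
      refine QuotientGroup.eq.2 (mem_center_iff.2 fun m => Subtype.ext ?_)
      have e : ((vl i : H))⁻¹ * (vl j : H) = (r : H) * (q : H)⁻¹ := by
        calc ((vl i : H))⁻¹ * (vl j : H) = (vl i : H)⁻¹ * ((vl j : H) * q) * (q : H)⁻¹ := by group
          _ = _ := by rw [← h']; group
      show (m : H) * (((vl i : H))⁻¹ * (vl j : H)) = ((vl i : H))⁻¹ * (vl j : H) * (m : H)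
      rw [e]
      exact hRc _ m.2 _ (mul_mem r.2 (inv_mem q.2))
    subst hij
    exact Prod.ext rfl (Subtype.ext (mul_left_cancel h'))
  obtain ⟨i₀, j₀, hi, hj, hi1, hj1, hij⟩ := D.facts.simple.two
  have h3 : 3 ≤ Nat.card {i // Inv (P : Subgroup (↥L ⧸ center ↥L)) i} := by
    have h2 : ({1, i₀, j₀} : Set (↥L ⧸ center ↥L)).ncard = 3 :=
      Set.ncard_eq_three.2 ⟨1, i₀, j₀, Ne.symm hi1, Ne.symm hj1, hij, rfl⟩
    rw [← h2]
    change _ ≤ Nat.card ({i | Inv (P : Subgroup (↥L ⧸ center ↥L)) i} : Set _)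
    rw [Nat.card_coe_set_eq]
    refine Set.ncard_le_ncard ?_ (Set.toFinite _)
    rintro _ (rfl | rfl | rfl)
    · exact ⟨one_mem _, one_mul 1⟩
    · exact hi
    · exact hj
  obtain ⟨k, hkR⟩ := IsPGroup.iff_card.1 ((isPGroup_pCore 2 (G := H)).to_le (inf_le_right : R ≤ _))
  have hk3 : k ≤ 3 := by
    by_contra hlt
    have : 2 ^ 4 ≤ 2 ^ k := Nat.pow_le_pow_right (by norm_num) (by omega)
    rw [hkR] at hcount
    have := Nat.mul_le_mul h3 this
    omega
  set xl : ↥L := ⟨x, hx⟩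
  set p := zm L xl with hp
  have hpP : p ∈ P := (D.mem_iff xl).2 hxT
  have hlifts : ∀ u : ↥L, (u : H) ∈ (S.T : Subgroup H) → Inv (P : Subgroup (↥L ⧸ center ↥L)) (zm L u) →
      (u : H) ∈ S.A := fun u _ hu => by
    obtain ⟨v, hv, -, e⟩ := D.lift _ hu
    have hc : ((v⁻¹ * u : ↥L) : H) ∈ R := hcenR _ (QuotientGroup.eq.1 e)
    have := mul_mem hv hc.1
    rwa [Subgroup.coe_mul, Subgroup.coe_inv, mul_inv_cancel_left] at this
  rcases Nat.lt_or_ge k 3 with hk | hk
  · -- a small normal part consists of fixed elements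
    have hRfix : ∀ b, S.el b ∈ R → fixC b = true := by
      intro b hb
      by_cases hb' : b = 0 ∨ b = 31
      · rcases hb' with rfl | rfl <;> rfl
      push Not at hb'
      refine near_fix b fun u => ?_
      have hc : S.el (ua u b) ∈ R := by
        rw [← S.ul_conj]; exact Subgroup.Normal.conj_mem inferInstance _ hb _
      by_contra hne
      push Not at hne
      have hz : S.el 31 ∈ R := ⟨S.el_mem 31, S.alpha_core⟩
      have hR4 : Nat.card R ≤ 4 := by
        rw [hkR]; exact (Nat.pow_le_pow_right (by norm_num) (show k ≤ 2 by omega)).trans (by norm_num)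
      have hfix0 : ∀ u, ua u 0 = 0 ∧ ua u 31 = 31 := by decide +kernel
      have hinjua : ∀ u a c, ua u a = ua u c → a = c := by decide +kernel
      have hinj : Function.Injective (![⟨S.el 0, S.el_zero ▸ one_mem R⟩, ⟨S.el 31, hz⟩, ⟨S.el b, hb⟩,
          ⟨S.el (xor5 b 31), by rw [← S.el_mul]; exact mul_mem hb hz⟩, ⟨S.el (ua u b), hc⟩] : Fin 5 → R) := by
        have hd : ∀ b c : Fin 32, b ≠ 0 → b ≠ 31 → c ≠ 0 → c ≠ 31 → c ≠ b → c ≠ xor5 b 31 →
            Function.Injective (![0, 31, b, xor5 b 31, c] : Fin 5 → Fin 32) := by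
          have hd' : ∀ b c : Fin 32, b ≠ 0 → b ≠ 31 → c ≠ 0 → c ≠ 31 → c ≠ b → c ≠ xor5 b 31 →
              ∀ i j : Fin 5, (![0, 31, b, xor5 b 31, c] : Fin 5 → Fin 32) i = ![0, 31, b, xor5 b 31, c] j → i = j := by
            decide +kernel
          exact fun b c h1 h2 h3 h4 h5 h6 i j => hd' b c h1 h2 h3 h4 h5 h6 i j
        intro i j h
        refine hd b (ua u b) hb'.1 hb'.2 (fun e => hb'.1 (hinjua u _ _ (e.trans (hfix0 u).1.symm)))
          (fun e => hb'.2 (hinjua u _ _ (e.trans (hfix0 u).2.symm))) hne.1 hne.2 ?_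
        have e := congrArg Subtype.val h
        fin_cases i <;> fin_cases j <;> first | rfl | exact S.el_inj e
      have := Nat.card_le_card_of_injective _ hinj
      simp at this
      omega
    have hshape : ∀ u : ↥L, (u : H) ∈ (S.T : Subgroup H) → (u : H) ∉ S.A → ∃ c, (u : H) = S.el c * S.ul 4 := by
      intro u hu huA
      obtain ⟨c, v, hv⟩ := S.mem_T.1 hu
      refine ⟨c, ?_⟩
      rcases near_fix_unique v (fun b => hRfix _ (by
        have := hlayer u hu _ (S.el_mem b)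
        rwa [hv, S.conj_el, S.el_inv, S.el_mul] at this)) with rfl | rfl
      · exact absurd (S.mem_A.2 ⟨c, by rw [hv, S.ul_zero, mul_one]⟩) huA
      · exact hv
    obtain ⟨w, hw, hfpf⟩ := D.facts.fpf
    obtain ⟨g, rfl⟩ := hsur w
    have hp' : zm L (g * xl * g⁻¹) ∈ P := by
      rw [map_mul, map_mul, map_inv]; exact (mem_normalizer_iff.1 hw p).1 hpP
    have hu'T := (D.mem_iff _).1 hp'
    have hu'A : ((g * xl * g⁻¹ : ↥L) : H) ∉ S.A := by
      intro h
      refine hxA (hlifts xl hxT ?_)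
      obtain ⟨h1, h2⟩ := hA_inv _ h
      rw [map_mul, map_mul, map_inv, _root_.conj_mul] at h2
      exact ⟨hpP, conj_eq_one_iff.1 h2⟩
    obtain ⟨c, hc⟩ := hshape xl hxT hxA
    obtain ⟨c', hc'⟩ := hshape _ hu'T hu'A
    have hd : ((xl⁻¹ * (g * xl * g⁻¹) : ↥L) : H) ∈ S.A := by
      rw [Subgroup.coe_mul, Subgroup.coe_inv, hc, hc', show (S.el c * S.ul 4)⁻¹ * (S.el c' * S.ul 4) =
        (S.ul 4)⁻¹ * ((S.el c)⁻¹ * S.el c') * (S.ul 4)⁻¹⁻¹ by group]
      exact (mem_normalizer_iff.1 (C.sylow_norm (inv_mem (S.ul_mem 4))) _).1 (mul_mem (inv_mem (S.el_mem c)) (S.el_mem c'))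
    have hdi := hA_inv _ hd
    refine hxA (hlifts xl hxT (hfpf p hpP ?_))
    have e : zm L g * p * (zm L g)⁻¹ * p⁻¹ = p * zm L (xl⁻¹ * (g * xl * g⁻¹)) * p⁻¹ := by
      rw [map_mul, map_inv, map_mul, map_mul, map_inv, ← hp]; group
    rw [e, ← D.facts.simple.central _ hdi p hpP, mul_inv_cancel_right]
    exact hdi
  · -- the four group case
    have hk' : k = 3 := by omega
    have hI4 : Nat.card {i // Inv (P : Subgroup (↥L ⧸ center ↥L)) i} = 4 := by
      have h2 := IsPGroup.iff_card.1 (P.2.to_le (show invGroup D.facts.simple ≤ P from fun i hi => hi.1))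
      obtain ⟨n, hn⟩ := h2
      change Nat.card {i // Inv (P : Subgroup (↥L ⧸ center ↥L)) i} = 2 ^ n at hn
      rw [hkR, hk'] at hcount
      rw [hn] at h3 hcount ⊢
      rcases n with _ | _ | _ | n
      · omega
      · omega
      · norm_num
      · have := Nat.one_le_two_pow (n := n)
        rw [pow_succ, pow_succ, pow_succ] at hcount
        omega
    have hx4 : ∃ y ∈ P, y * y ≠ 1 := ⟨p, hpP, fun h => hxA (hlifts xl hxT ⟨hpP, h⟩)⟩
    obtain ⟨w, hw, -, hwfix, hδ⟩ := D.facts.simple.kill hI4 hx4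
    obtain ⟨g, rfl⟩ := hsur w
    -- the action on the subgroup
    let N : Subgroup H := normalizer (S.A : Set H)
    have hN : ∀ u : ↥L, (u : H) ∈ (S.T : Subgroup H) → (u : H) ∈ N := fun u hu => C.sylow_norm hu
    let ρ : ↥N →* MulAut ↥S.A := S.A.normalizerMonoidHom
    have hwd : ∀ u v : ↥L, ∀ (hu : (u : H) ∈ (S.T : Subgroup H)) (hv : (v : H) ∈ (S.T : Subgroup H)),
        zm L u = zm L v → ρ ⟨u, hN u hu⟩ = ρ ⟨v, hN v hv⟩ := by
      intro u v hu hv e
      refine MulEquiv.ext fun a => Subtype.ext ?_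
      show (u : H) * a * (u : H)⁻¹ = (v : H) * a * (v : H)⁻¹
      have hk : ((u⁻¹ * v : ↥L) : H) ∈ R := hcenR _ (QuotientGroup.eq.1 e)
      rw [Subgroup.coe_mul, Subgroup.coe_inv] at hk
      calc (u : H) * a * (u : H)⁻¹ = u * ((a : H) * ((u : H)⁻¹ * v)) * (v : H)⁻¹ := by group
        _ = u * (((u : H)⁻¹ * v) * a) * (v : H)⁻¹ := by rw [S.A_comm a.2 hk.1]
        _ = _ := by group
    have hpre : ∀ q : ↥(P : Subgroup (↥L ⧸ center ↥L)), ∃ u : ↥L, zm L u = (q : ↥L ⧸ center ↥L) := fun q => hsur q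
    choose up hup using hpre
    have hupT : ∀ q, (up q : H) ∈ (S.T : Subgroup H) := fun q => (D.mem_iff _).1 (by rw [hup]; exact q.2)
    let δ : ↥(P : Subgroup (↥L ⧸ center ↥L)) →* MulAut ↥S.A :=
      MonoidHom.mk' (fun q => ρ ⟨up q, hN _ (hupT q)⟩) fun q q' => by
        rw [← map_mul]
        exact hwd (up (q * q')) (up q * up q') (hupT _) (mul_mem (hupT q) (hupT q'))
          (by rw [hup, map_mul, hup, hup, Subgroup.coe_mul])
    have hδ1 := hδ (MulAut ↥S.A) δ (fun q hq => MulEquiv.ext fun a => Subtype.ext (by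
        show (up q : H) * a * (up q : H)⁻¹ = a
        rw [S.A_comm (hlifts _ (hupT q) (by rw [hup]; exact hq)) a.2, mul_inv_cancel_right]))
      (fun q q' he => by
        have hT' : ((g * up q * g⁻¹ : ↥L) : H) ∈ (S.T : Subgroup H) := (D.mem_iff _).1 (by
          rw [map_mul, map_mul, map_inv, hup, ← he]; exact q'.2)
        show ρ ⟨up q', _⟩ = ρ ⟨up q, _⟩
        rw [hwd (up q') (g * up q * g⁻¹) (hupT q') hT' (by rw [map_mul, map_mul, map_inv, hup, hup, he])]
        refine MulEquiv.ext fun a => Subtype.ext ?_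
        show ((g * up q * g⁻¹ : ↥L) : H) * a * ((g * up q * g⁻¹ : ↥L) : H)⁻¹ = (up q : H) * a * (up q : H)⁻¹
        simp only [Subgroup.coe_mul, Subgroup.coe_inv]
        -- `g` moves `a` by an element of the normal part
        obtain ⟨l, hl, hlc⟩ := D.proj a a.2
        have hk : ((g⁻¹ * l * g * l⁻¹ : ↥L) : H) ∈ R := hone _ (by
          have h1 := hwfix _ hl
          rw [map_mul, map_mul, map_mul, map_inv, map_inv]
          conv_lhs => arg 1; arg 1; arg 2; rw [← h1]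
          group)
        set k : H := ((g⁻¹ * l * g * l⁻¹ : ↥L) : H)
        have hga : (g : H)⁻¹ * a * g = k * a := by
          show _ = ((g⁻¹ * l * g * l⁻¹ : ↥L) : H) * (a : H)
          simp only [Subgroup.coe_mul, Subgroup.coe_inv]
          calc (g : H)⁻¹ * a * g = (g : H)⁻¹ * l * ((l : H)⁻¹ * a * g) := by group
            _ = (g : H)⁻¹ * l * ((g : H) * ((l : H)⁻¹ * a)) := by rw [← mem_centralizer_iff.1 hlc g g.2]
            _ = _ := by group
        have hr := hlayer (up q) (hupT q) a a.2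
        set r : H := (up q : H) * a * (up q : H)⁻¹ * (a : H)⁻¹ with hrd
        calc (g : H) * up q * (g : H)⁻¹ * a * ((g : H) * up q * (g : H)⁻¹)⁻¹
            = (g : H) * ((up q : H) * ((g : H)⁻¹ * a * g) * (up q : H)⁻¹) * (g : H)⁻¹ := by group
          _ = (g : H) * (((up q : H) * k) * a * (up q : H)⁻¹) * (g : H)⁻¹ := by rw [hga]; group
          _ = (g : H) * (k * r * a) * (g : H)⁻¹ := by rw [hRc _ (up q).2 _ hk, hrd]; group
          _ = (g : H) * (r * (k * a)) * (g : H)⁻¹ := by rw [S.A_comm hk.1 hr.1]; group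
          _ = (g : H) * r * ((g : H)⁻¹ * a * g) * (g : H)⁻¹ := by rw [hga]; group
          _ = r * a := by rw [hRc _ g.2 _ hr]; group
          _ = _ := by rw [hrd]; group)
    obtain ⟨c, v, hv⟩ := S.mem_T.1 hxT
    have hv0 : v = 0 := faithful v fun b => S.el_inj (by
      have h1 := congrArg (fun f : MulAut ↥S.A => ((f ⟨S.el b, S.el_mem b⟩ : S.A) : H))
        (DFunLike.congr_fun hδ1 ⟨p, hpP⟩)
      have h2 : ρ ⟨up ⟨p, hpP⟩, hN _ (hupT _)⟩ = ρ ⟨xl, hN xl hxT⟩ := hwd _ xl (hupT _) hxT (hup _)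
      change ((ρ ⟨up ⟨p, hpP⟩, hN _ (hupT _)⟩ ⟨S.el b, S.el_mem b⟩ : S.A) : H) = S.el b at h1
      rw [h2] at h1
      change x * S.el b * x⁻¹ = S.el b at h1
      rw [← S.conj_el c v b, ← hv]
      exact h1)
    exact hxA (S.mem_A.2 ⟨c, by rw [hv, hv0, S.ul_zero, mul_one]⟩)

/-- The elementary subgroup of order thirty two is normal. -/
theorem A_normal : S.A.Normal := by
  have hE : movLayer S.A = ⊥ := by
    rw [movLayer, S.no_abelian_comp fun L hL x hx hxT => S.comp_elementary hL.1 hL.2 hx hxT, sSup_empty]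
  have heq : normalClosure (S.A : Set H) = S.A := le_antisymm (by
    rw [S.cfg.normalClosure_eq, hE, bot_sup_eq]
    exact inf_le_left) subset_normalClosure
  exact heq ▸ normalClosure_normal

end Data

end Cfsg.Lib.CoThreeM.Cf
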